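import Groth.Agent.WeilLib.Dim
import Groth.Agent.GeomRedFieldLib.Generic
import Groth.Prelude.Def_Curv2
import Mathlib.AlgebraicGeometry.Morphisms.Etale
import Mathlib.AlgebraicGeometry.Morphisms.FormallyUnramified
import Mathlib.RingTheory.Etale.Field
import Mathlib.RingTheory.Etale.Locus
import Mathlib.RingTheory.Unramified.Field

/-!
# Generically étale morphisms of integral schemes
-/

set_option autoImplicit false
set_option linter.style.haveILetI false
universe u

open CategoryTheory CategoryTheory.Limits AlgebraicGeometry TopologicalSpace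

noncomputable section

namespace CurveFFLib

variable {k : Type u} [Field k] {X Y : Scheme.{u}} [X.Over (Spec (CommRingCat.of k))]
  [Y.Over (Spec (CommRingCat.of k))]

/-- The function field map of a morphism over the base field commutes with the constants. -/
theorem ff_scalar {f : X ⟶ Y} (hf : f ≫ (Y ↘ Spec (CommRingCat.of k)) = X ↘ Spec (CommRingCat.of k))
    [IsIntegral X] [IsIntegral Y] (e : f (genericPoint X) = genericPoint Y) (c : k) :
    (Y.presheaf.stalkSpecializes (specializes_of_eq e) ≫ f.stalkMap (genericPoint X)).hom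
      (Curv2.stalkMap k Y (genericPoint Y) c) = Curv2.stalkMap k X (genericPoint X) c := by
  change f.stalkMap (genericPoint X) (Y.presheaf.stalkSpecializes (specializes_of_eq e)
    (Y.presheaf.germ ⊤ (genericPoint Y) trivial _)) = _
  rw [TopCat.Presheaf.germ_stalkSpecializes_apply, Scheme.Hom.germ_stalkMap_apply]
  change X.presheaf.germ ⊤ (genericPoint X) trivial (f.app ⊤ (Coh.toGlobal (Y ↘ Spec (CommRingCat.of k)) c)) =
    X.presheaf.germ ⊤ (genericPoint X) trivial (Coh.toGlobal (X ↘ Spec (CommRingCat.of k)) c)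
  rw [← hf]
  rfl

theorem trdeg_functionField [IsIntegral X] [LocallyOfFiniteType (X ↘ Spec (CommRingCat.of k))] :
    letI := Curv2.stalkAlgebra k X (genericPoint X)
    ∃ s : ℕ, topologicalKrullDim X = s ∧ Algebra.trdeg k X.functionField = s := by
  letI := Curv2.stalkAlgebra k X (genericPoint X)
  let F : Over (Spec (CommRingCat.of k)) := Over.mk (X ↘ (Spec (CommRingCat.of k)))
  have hF : LocallyOfFiniteType F.hom := ‹LocallyOfFiniteType (X ↘ (Spec (CommRingCat.of k)))›
  obtain ⟨s, hs, hs'⟩ := @WeilLib.pdim_eq_trdeg k _ F hF (genericPoint X)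
  change topologicalKrullDim (closure ({genericPoint X} : Set X)) = _ at hs
  rw [(genericPoint_spec X).def] at hs
  refine ⟨s, (IsHomeomorph.topologicalKrullDim_eq _ (Homeomorph.Set.univ X).isHomeomorph).symm.trans hs, ?_⟩
  letI := Curv2.resAlgebra k X (genericPoint X)
  have he : (WeilLib.kappaMap F (genericPoint X)).hom = Curv2.resMap k X (genericPoint X) := rfl
  rw [he] at hs'
  let j : X.functionField ≃ₐ[k] X.residueField (genericPoint X) :=
    AlgEquiv.ofBijective { (X.residue (genericPoint X)).hom with commutes' := fun _ => rfl }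
      ⟨RingHom.injective (R := X.functionField) (X.residue (genericPoint X)).hom, X.residue_surjective _⟩
  exact j.trdeg_eq.trans hs'

theorem essFiniteType_functionField [IsIntegral X] [LocallyOfFiniteType (X ↘ Spec (CommRingCat.of k))] :
    letI := Curv2.stalkAlgebra k X (genericPoint X)
    Algebra.EssFiniteType k X.functionField := by
  letI := Curv2.stalkAlgebra k X (genericPoint X)
  let p := X ↘ Spec (CommRingCat.of k)
  obtain ⟨_, ⟨V : X.Opens, hV, rfl⟩, hxV, -⟩ :=
    X.isBasis_affineOpens.exists_subset_of_mem_open (Set.mem_univ (genericPoint X)) isOpen_univ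
  have hVU : V ≤ p ⁻¹ᵁ ⊤ := fun _ _ => trivial
  letI : Algebra k Γ(X, V) :=
    ((p.appLE ⊤ V hVU).hom.comp (Scheme.ΓSpecIso (CommRingCat.of k)).inv.hom).toAlgebra
  haveI : Algebra.FiniteType k Γ(X, V) :=
    RingHom.finiteType_respectsIso.2 _ (Scheme.ΓSpecIso (CommRingCat.of k)).symm.commRingCatIsoToRingEquiv
      (p.finiteType_appLE (isAffineOpen_top _) hV hVU)
  haveI : Nonempty V := ⟨⟨_, hxV⟩⟩
  haveI : IsFractionRing Γ(X, V) X.functionField := functionField_isFractionRing_of_isAffineOpen X V hV
  haveI : IsScalarTower k Γ(X, V) X.functionField := IsScalarTower.of_algebraMap_eq fun c => by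
    change X.presheaf.germ ⊤ (genericPoint X) trivial _ = X.presheaf.germ V (genericPoint X) hxV (p.appLE ⊤ V hVU _)
    rw [Scheme.Hom.appLE, CommRingCat.comp_apply, TopCat.Presheaf.germ_res_apply]
    rfl
  haveI : Algebra.EssFiniteType Γ(X, V) X.functionField :=
    Algebra.EssFiniteType.of_isLocalization _ (nonZeroDivisors Γ(X, V))
  exact Algebra.EssFiniteType.comp k Γ(X, V) _

/-- Function fields of the same dimension give finite extensions. -/
theorem finite_functionField [IsIntegral X] [IsIntegral Y] [LocallyOfFiniteType (X ↘ Spec (CommRingCat.of k))]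
    [LocallyOfFiniteType (Y ↘ Spec (CommRingCat.of k))] (hdim : topologicalKrullDim X = topologicalKrullDim Y)
    (f : X ⟶ Y) (hf : f ≫ (Y ↘ Spec (CommRingCat.of k)) = X ↘ Spec (CommRingCat.of k))
    (e : f (genericPoint X) = genericPoint Y) :
    letI := ((Y.presheaf.stalkSpecializes (specializes_of_eq e) ≫ f.stalkMap (genericPoint X)).hom).toAlgebra
    FiniteDimensional Y.functionField X.functionField := by
  letI := ((Y.presheaf.stalkSpecializes (specializes_of_eq e) ≫ f.stalkMap (genericPoint X)).hom).toAlgebra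
  letI := Curv2.stalkAlgebra k X (genericPoint X)
  letI := Curv2.stalkAlgebra k Y (genericPoint Y)
  haveI : IsScalarTower k Y.functionField X.functionField :=
    IsScalarTower.of_algebraMap_eq fun c => (ff_scalar hf e c).symm
  haveI := essFiniteType_functionField (k := k) (X := X)
  haveI : Algebra.EssFiniteType Y.functionField X.functionField := Algebra.EssFiniteType.of_comp k _ _
  obtain ⟨s, hs, hsX⟩ := trdeg_functionField (k := k) (X := X)
  obtain ⟨t, ht, htY⟩ := trdeg_functionField (k := k) (X := Y)
  obtain rfl : s = t := by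
    rw [hs, ht] at hdim
    exact_mod_cast hdim
  have h := trdeg_add_eq k Y.functionField (A := X.functionField)
  rw [hsX, htY] at h
  obtain ⟨m, hm⟩ := Cardinal.lt_aleph0.mp (lt_of_le_of_lt (h ▸ le_add_self :
    Algebra.trdeg Y.functionField X.functionField ≤ (s : Cardinal)) Cardinal.natCast_lt_aleph0)
  have hm0 : m = 0 := by
    rw [hm] at h
    have : s + m = s := by exact_mod_cast h
    omega
  haveI : Algebra.IsAlgebraic Y.functionField X.functionField :=
    trdeg_eq_zero_iff.mp (by rw [hm, hm0, Nat.cast_zero])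
  exact Algebra.finite_of_essFiniteType_of_isAlgebraic

theorem isSeparable_of_formallyUnramified {X Y : Scheme.{u}} [IsIntegral X] [IsIntegral Y] (f : X ⟶ Y)
    (e : f (genericPoint X) = genericPoint Y)
    (hfin : @Algebra.EssFiniteType Y.functionField X.functionField _ _
      ((Y.presheaf.stalkSpecializes (specializes_of_eq e) ≫ f.stalkMap (genericPoint X)).hom).toAlgebra)
    (U : X.Opens) (hU : (U : Set X).Nonempty) [FormallyUnramified (U.ι ≫ f)] :
    @Algebra.IsSeparable Y.functionField X.functionField _ _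
      ((Y.presheaf.stalkSpecializes (specializes_of_eq e) ≫ f.stalkMap (genericPoint X)).hom).toAlgebra := by
  obtain ⟨w, hw⟩ := hU
  have hξ : genericPoint X ∈ U := ((genericPoint_spec X).mem_open_set_iff U.2).mpr ⟨w, trivial, hw⟩
  letI := ((Y.presheaf.stalkSpecializes (specializes_of_eq e) ≫ f.stalkMap (genericPoint X)).hom).toAlgebra
  haveI := hfin
  have h := FormallyUnramified.stalkMap (U.ι ≫ f) (⟨genericPoint X, hξ⟩ : U)
  rw [Scheme.Hom.stalkMap_comp] at h
  haveI : IsIso (U.ι.stalkMap (⟨genericPoint X, hξ⟩ : U)) := inferInstance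
  have hb : Function.Bijective (Y.presheaf.stalkSpecializes (specializes_of_eq e)).hom := by
    have hsurj : ∀ {a b : Y} (h : a = b), Function.Bijective (Y.presheaf.stalkSpecializes (specializes_of_eq h)).hom := by
      intro a b h
      subst h
      refine ⟨fun x y hxy => by simpa using hxy, fun z => ⟨z, by simp⟩⟩
    exact hsurj e
  have h1 : (f.stalkMap (genericPoint X)).hom.FormallyUnramified :=
    (RingHom.FormallyUnramified.respectsIso.cancel_right_isIso (f.stalkMap (U.ι ⟨genericPoint X, hξ⟩))
      (U.ι.stalkMap ⟨genericPoint X, hξ⟩)).mp h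
  have h2 : ((Y.presheaf.stalkSpecializes (specializes_of_eq e) ≫ f.stalkMap (genericPoint X)).hom).FormallyUnramified := by
    rw [CommRingCat.hom_comp]
    exact RingHom.FormallyUnramified.respectsIso.2 _ (RingEquiv.ofBijective _ hb) h1
  haveI : Algebra.FormallyUnramified Y.functionField X.functionField := h2
  exact (Algebra.FormallyUnramified.iff_isSeparable _ _).mp inferInstance

theorem exists_etale_of_isSeparable {X Y : Scheme.{u}} [IsIntegral X] [IsIntegral Y] (f : X ⟶ Y)
    [LocallyOfFinitePresentation f] (e : f (genericPoint X) = genericPoint Y)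
    (hsep : @Algebra.IsSeparable Y.functionField X.functionField _ _
      ((Y.presheaf.stalkSpecializes (specializes_of_eq e) ≫ f.stalkMap (genericPoint X)).hom).toAlgebra) :
    ∃ U : X.Opens, (U : Set X).Nonempty ∧ Etale (U.ι ≫ f) := by
  letI algKL := ((Y.presheaf.stalkSpecializes (specializes_of_eq e) ≫ f.stalkMap (genericPoint X)).hom).toAlgebra
  haveI := hsep
  obtain ⟨_, ⟨U : Y.Opens, hU, rfl⟩, hηU, -⟩ :=
    Y.isBasis_affineOpens.exists_subset_of_mem_open (Set.mem_univ (genericPoint Y)) isOpen_univ
  have hξU : genericPoint X ∈ f ⁻¹ᵁ U := by change f (genericPoint X) ∈ U; rw [e]; exact hηU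
  obtain ⟨_, ⟨V : X.Opens, hV, rfl⟩, hξV, hVU⟩ :=
    X.isBasis_affineOpens.exists_subset_of_mem_open hξU (f ⁻¹ᵁ U).2
  haveI : Nonempty U := ⟨⟨_, hηU⟩⟩
  haveI : Nonempty V := ⟨⟨_, hξV⟩⟩
  have hle : V ≤ f ⁻¹ᵁ U := hVU
  letI algAB : Algebra Γ(Y, U) Γ(X, V) := (f.appLE U V hle).hom.toAlgebra
  haveI : Algebra.FinitePresentation Γ(Y, U) Γ(X, V) := f.finitePresentation_appLE hU hV hle
  haveI : IsFractionRing Γ(Y, U) Y.functionField := functionField_isFractionRing_of_isAffineOpen Y U hU
  letI algAL : Algebra Γ(Y, U) X.functionField :=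
    ((algebraMap Y.functionField X.functionField).comp (algebraMap Γ(Y, U) Y.functionField)).toAlgebra
  haveI : IsScalarTower Γ(Y, U) Y.functionField X.functionField := IsScalarTower.of_algebraMap_eq fun _ => rfl
  haveI : IsScalarTower Γ(Y, U) Γ(X, V) X.functionField := IsScalarTower.of_algebraMap_eq fun a => by
    change f.stalkMap (genericPoint X) (Y.presheaf.stalkSpecializes (specializes_of_eq e)
      (Y.presheaf.germ U (genericPoint Y) hηU a)) = X.presheaf.germ V (genericPoint X) hξV (f.appLE U V hle a)
    rw [TopCat.Presheaf.germ_stalkSpecializes_apply, Scheme.Hom.germ_stalkMap_apply, Scheme.Hom.appLE,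
      CommRingCat.comp_apply, TopCat.Presheaf.germ_res_apply]
  haveI : Algebra.FormallyEtale Γ(Y, U) Y.functionField :=
    Algebra.FormallyEtale.of_isLocalization (nonZeroDivisors Γ(Y, U))
  haveI : Algebra.FormallyEtale Y.functionField X.functionField := Algebra.FormallyEtale.of_isSeparable _ _
  haveI : Algebra.FormallyEtale Γ(Y, U) X.functionField := Algebra.FormallyEtale.comp _ Y.functionField _
  let P := (hV.primeIdealOf ⟨genericPoint X, hξV⟩).asIdeal
  haveI : IsLocalization.AtPrime X.functionField P := hV.isLocalization_stalk ⟨genericPoint X, hξV⟩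
  haveI : Algebra.IsEtaleAt Γ(Y, U) P := Algebra.FormallyEtale.of_equiv
    ((IsLocalization.algEquiv P.primeCompl X.functionField (Localization.AtPrime P)).restrictScalars Γ(Y, U))
  obtain ⟨g, hgP, hg⟩ := Algebra.exists_etale_of_isEtaleAt (R := Γ(Y, U)) P
  let W := X.basicOpen g
  haveI : IsAffine (U : Scheme.{u}) := hU
  haveI : IsAffine (W : Scheme.{u}) := hV.basicOpen g
  have hWV : W ≤ V := X.basicOpen_le g
  refine ⟨W, ⟨genericPoint X, ?_⟩, ?_⟩
  · rw [SetLike.mem_coe, X.mem_basicOpen g _ hξV]
    exact IsLocalization.map_units (M := P.primeCompl) X.functionField ⟨g, hgP⟩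
  · have hle' : W ≤ f ⁻¹ᵁ U := hWV.trans hle
    haveI : Etale (f.resLE U W hle') := by
      rw [HasRingHomProperty.iff_of_isAffine (P := @Etale)]
      refine (RingHom.Etale.respectsIso.arrow_mk_iso_iff (arrowResLEAppIso f U W hle')).mpr ?_
      haveI := hV.isLocalization_basicOpen g
      rw [← RingHom.etale_algebraMap] at hg
      have h := RingHom.Etale.respectsIso.1 _
        (IsLocalization.algEquiv (Submonoid.powers g) (Localization.Away g) Γ(X, W)).toRingEquiv hg
      refine (?_ : _ = (f.appLE U W hle').hom) ▸ h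
      ext c
      exact (IsLocalization.algEquiv (Submonoid.powers g) (Localization.Away g) Γ(X, W)).commutes
        (f.appLE U V hle c) |>.trans (congr($(Scheme.Hom.appLE_map f hle (homOfLE hWV).op) c))
    rw [← Scheme.Hom.resLE_comp_ι f hle']
    infer_instance

end CurveFFLib
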