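import Groth.Agent.CurveFFLib.TwistFF
import Mathlib.RingTheory.Unramified.Field

/-!
# Purely inseparable maps of curves are Frobenius twists
-/

set_option autoImplicit false
set_option linter.style.haveILetI false
set_option linter.unusedSectionVars false
universe u

open CategoryTheory CategoryTheory.Limits AlgebraicGeometry TopologicalSpace
open IntermediateField IsLocalRing KaehlerDifferential

noncomputable section

namespace CurveFFLib

variable {k : Type u} [Field k] {X : Scheme.{u}} [X.Over (Spec (CommRingCat.of k))] [IsIntegral X]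

/-- The function field of a smooth curve is separably generated. -/
theorem exists_separating [Smooth (X ↘ Spec (CommRingCat.of k))] (hdim : topologicalKrullDim X = 1) :
    letI : Algebra k X.functionField := Curv2.stalkAlgebra k X (genericPoint X)
    ∃ t : X.functionField, Algebra.IsSeparable k⟮t⟯ X.functionField := by
  letI algK : Algebra k X.functionField := Curv2.stalkAlgebra k X (genericPoint X)
  haveI : JacobsonSpace X := LocallyOfFiniteType.jacobsonSpace (X ↘ Spec (CommRingCat.of k))
  obtain ⟨x, -, hx⟩ := nonempty_inter_closedPoints (X := X) (Z := Set.univ) Set.univ_nonempty isClosed_univ.isLocallyClosed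
  rw [mem_closedPoints_iff] at hx
  let B := X.presheaf.stalk x
  letI algB : Algebra k B := Curv2.stalkAlgebra k X x
  obtain ⟨hess, -, -, T, hT⟩ := HurwitzLib.exists_smooth_data (k := k) hdim hx
  haveI := hess
  haveI : IsScalarTower k B X.functionField := IsScalarTower.of_algebraMap_eq fun c =>
    (TopCat.Presheaf.germ_stalkSpecializes_apply X.presheaf (U := ⊤) trivial
      ((genericPoint_spec X).specializes trivial) _).symm
  haveI : Algebra.EssFiniteType B X.functionField :=
    Algebra.EssFiniteType.of_isLocalization _ (nonZeroDivisors B)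
  haveI : Algebra.EssFiniteType k X.functionField := Algebra.EssFiniteType.comp k B _
  haveI : Algebra.FormallyUnramified B X.functionField :=
    Algebra.FormallyUnramified.of_isLocalization (nonZeroDivisors B)
  let t : X.functionField := algebraMap B X.functionField T
  refine ⟨t, ?_⟩
  haveI : Algebra.EssFiniteType k⟮t⟯ X.functionField := Algebra.EssFiniteType.of_comp k _ _
  have hspan : Submodule.span X.functionField {D k X.functionField t} = ⊤ := by
    rw [eq_top_iff, ← Groth.Agent.S16548.span_of_subsingleton (k := k) (A := B) (B := X.functionField),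
      Submodule.span_le]
    rintro _ ⟨b, rfl⟩
    obtain ⟨c, hc⟩ := Submodule.mem_span_singleton.mp (hT.ge (Submodule.mem_top : D k B b ∈ ⊤))
    refine Submodule.mem_span_singleton.mpr ⟨algebraMap B X.functionField c, ?_⟩
    have h := congrArg (KaehlerDifferential.map k k B X.functionField) hc
    rw [map_smul, KaehlerDifferential.map_D, KaehlerDifferential.map_D] at h
    rw [algebraMap_smul X.functionField c]
    exact h
  haveI : Algebra.FormallyUnramified k⟮t⟯ X.functionField := ⟨Groth.Agent.S16548.subsingleton_of_span (k := k) (by
    rw [eq_top_iff, ← hspan, Submodule.span_le, Set.singleton_subset_iff]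
    exact Submodule.subset_span ⟨⟨t, mem_adjoin_simple_self k t⟩, rfl⟩)⟩
  exact (Algebra.FormallyUnramified.iff_isSeparable _ _).mp inferInstance

/-- A purely inseparable map out of a smooth proper curve is a Frobenius twist. -/
theorem exists_iso_twist (p : ℕ) [Fact p.Prime] [ExpChar k p] [IsProper (X ↘ Spec (CommRingCat.of k))]
    [Smooth (X ↘ Spec (CommRingCat.of k))] (hdX : topologicalKrullDim X = 1)
    {Y : Scheme.{u}} [Y.Over (Spec (CommRingCat.of k))] [IsIntegral Y] [IsProper (Y ↘ Spec (CommRingCat.of k))]
    (hdY : topologicalKrullDim Y ≤ 1) (hnY : Pi1.IsNormalScheme Y) (f : X ⟶ Y)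
    (hf : f ≫ (Y ↘ Spec (CommRingCat.of k)) = X ↘ Spec (CommRingCat.of k))
    (e : f (genericPoint X) = genericPoint Y)
    (hpi : letI := ((Y.presheaf.stalkSpecializes (specializes_of_eq e) ≫ f.stalkMap (genericPoint X)).hom).toAlgebra
      IsPurelyInseparable Y.functionField X.functionField) :
    ∃ (r : ℕ) (i : Y ≅ twist k p X r), i.hom ≫ twistHom k p X r = Y ↘ Spec (CommRingCat.of k) := by
  letI algK : Algebra k X.functionField := Curv2.stalkAlgebra k X (genericPoint X)
  haveI : CharP k p := charP_of_expChar k p
  haveI : CharP X.functionField p := charP_of_injective_algebraMap (algebraMap k X.functionField).injective p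
  haveI : ExpChar X.functionField p := ExpChar.prime Fact.out
  obtain ⟨t, ht⟩ := exists_separating (k := k) hdX
  haveI := ht
  let a : Y.functionField →+* X.functionField :=
    (Y.presheaf.stalkSpecializes (specializes_of_eq e) ≫ f.stalkMap (genericPoint X)).hom
  let L : IntermediateField k X.functionField :=
    { a.fieldRange with
      algebraMap_mem' := fun c => ⟨Curv2.stalkMap k Y (genericPoint Y) c,
        HurwitzLib.stalkTo_stalkMap hf e c⟩ }
  letI := a.toAlgebra
  haveI : IsPurelyInseparable Y.functionField X.functionField := hpi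
  haveI : CharP Y.functionField p := (RingHom.charP_iff_charP a p).mpr inferInstance
  haveI : ExpChar Y.functionField p := ExpChar.prime Fact.out
  haveI : ExpChar L p := (algebraMap L X.functionField).expChar (RingHom.injective _) p
  haveI : IsPurelyInseparable L X.functionField := (isPurelyInseparable_iff_pow_mem L p).mpr fun z => by
    obtain ⟨n, y, hy⟩ := IsPurelyInseparable.pow_mem Y.functionField p z
    exact ⟨n, ⟨a y, ⟨y, rfl⟩⟩, hy⟩
  obtain ⟨r, hr⟩ := exists_eq_adjoin_pow p t L
  obtain ⟨hint, hn, hdim, -⟩ := twist_facts (k := k) (X := X) p r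
  haveI := hint
  obtain ⟨Φ, hΦs, hΦ⟩ := exists_relFrobIter k p X r
  have eP := relFrobIter_generic Φ fun x => (hΦ x).1
  haveI : IsProper (twistHom k p X r) := MorphismProperty.pullback_snd _ _ ‹_›
  haveI : IsLocallyNoetherian Y := LocallyOfFiniteType.isLocallyNoetherian (Y ↘ Spec (CommRingCat.of k))
  haveI : IsLocallyNoetherian (twist k p X r) := LocallyOfFiniteType.isLocallyNoetherian (twistHom k p X r)
  obtain ⟨i, hi, -⟩ := exists_iso_of_range_eq (Y ↘ Spec (CommRingCat.of k)) (twistHom k p X r) hdY hnY
    (hdim.trans hdX).le hn f Φ (hf.trans hΦs.symm) e eP (by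
      rw [range_relFrobIter p r Φ hΦs hΦ eP, ← hr]
      rfl)
  exact ⟨r, i, hi⟩

end CurveFFLib
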