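import Groth.Agent.CurveFFLib.Auto
import Groth.Agent.GenusZeroLib.PSmooth
import Groth.Agent.GenusZeroLib.PSpace
import Mathlib.FieldTheory.RatFunc.AsPolynomial

/-!
# The function field of the projective line over any field
-/

set_option autoImplicit false
set_option linter.style.haveILetI false
universe u

open CategoryTheory CategoryTheory.Limits AlgebraicGeometry TopologicalSpace
open HomogeneousLocalization

noncomputable section

namespace CurveFFLib

attribute [local instance] CurveDualLib.algFF

variable {k : Type u} [Field k]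

theorem exists_specGen (R : CommRingCat.{u}) [IsDomain R] :
    ∃ (a : R →+* (Spec R).functionField) (_ : @IsFractionRing R _ (Spec R).functionField _ a.toAlgebra),
      genPt (Spec R) = Spec.map (CommRingCat.ofHom a) :=
  ⟨algebraMap R (Spec R).functionField, by
    convert functionField_isFractionRing_of_affine R, Spec.fromSpecStalk_eq' (R := R) (genericPoint (Spec R))⟩

/-- An integral scheme with an open affine line has a rational function field. -/
theorem exists_ratFunc_of_chart {Z : Scheme.{u}} [Z.Over (Spec (CommRingCat.of k))] [IsIntegral Z]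
    (j : Spec (CommRingCat.of (Polynomial k)) ⟶ Z) [IsOpenImmersion j]
    (hj : j ≫ (Z ↘ Spec (CommRingCat.of k)) = Spec.map (CommRingCat.ofHom (algebraMap k (Polynomial k)))) :
    Nonempty (RatFunc k ≃ₐ[k] Z.functionField) := by
  let Y : Scheme.{u} := Spec (CommRingCat.of (Polynomial k))
  letI : Y.Over (Spec (CommRingCat.of k)) := ⟨Spec.map (CommRingCat.ofHom (algebraMap k (Polynomial k)))⟩
  obtain ⟨ψ, hψ⟩ := exists_algHom_of_hom (X := Y) (Y := Z) (k := k) (F := j) hj (genericPoint_eq_of_isOpenImmersion j)
  have hbij : Function.Bijective ψ := by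
    have h := congrArg CommRingCat.Hom.hom (stalkMap_of_genPt hψ)
    have he : (ψ : Z.functionField → Y.functionField) =
        (Z.presheaf.stalkSpecializes (specializes_of_eq (gen_of_genPt hψ)) ≫ j.stalkMap (genericPoint Y)).hom :=
      funext fun x => (RingHom.congr_fun h x).symm
    rw [he]
    haveI : IsIso (Z.presheaf.stalkSpecializes (specializes_of_eq (gen_of_genPt hψ))) :=
      (Z.presheaf.stalkCongr (Inseparable.of_eq (gen_of_genPt hψ))).isIso_inv
    exact ConcreteCategory.bijective_of_isIso _
  haveI : IsDomain ↥(CommRingCat.of (Polynomial k)) := inferInstanceAs (IsDomain (Polynomial k))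
  obtain ⟨a, ha, hgen'⟩ := exists_specGen (CommRingCat.of (Polynomial k))
  letI : Algebra (Polynomial k) Y.functionField := RingHom.toAlgebra (S := Y.functionField) (show Polynomial k →+* Y.functionField from a)
  haveI : IsFractionRing (Polynomial k) Y.functionField := ha
  haveI : IsScalarTower k (Polynomial k) Y.functionField := by
    refine IsScalarTower.of_algebraMap_eq' ?_
    have h := genPt_structure (k := k) (X := Y)
    have hgen : genPt Y = Spec.map (CommRingCat.ofHom (algebraMap (Polynomial k) Y.functionField)) :=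
      hgen'
    change genPt Y ≫ Spec.map (CommRingCat.ofHom (algebraMap k (Polynomial k))) = _ at h
    rw [hgen, ← Spec.map_comp] at h
    exact (congrArg CommRingCat.Hom.hom (Spec.map_injective h)).symm
  exact ⟨((IsLocalization.algEquiv (nonZeroDivisors (Polynomial k)) (RatFunc k) Y.functionField).restrictScalars k).trans
      (AlgEquiv.ofBijective ψ hbij).symm⟩

/-- The function field of the projective line is rational. -/
theorem exists_ratFunc_line [(CohB1.ProjSpace 1 k).Over (Spec (CommRingCat.of k))]
    (hov : (CohB1.ProjSpace 1 k ↘ Spec (CommRingCat.of k)) = CohB1.ProjSpace.toSpec 1 k)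
    [IsIntegral (CohB1.ProjSpace 1 k)] : Nonempty (RatFunc k ≃ₐ[k] (CohB1.ProjSpace 1 k).functionField) := by
  let X₀ : MvPolynomial (Fin 2) k := MvPolynomial.X 0
  have hX : X₀ ∈ CohB1.polyGrading 1 k 1 := GradedCechLib.X_mem 1 k 0
  let c := RingEquiv.ofBijective _ (GenusZeroLib.chartPoly_bijective 1 k 0)
  let mv : MvPolynomial (Fin 1) k ≃ₐ[k] Polynomial k := MvPolynomial.uniqueAlgEquiv k (Fin 1)
  let g : Away (CohB1.polyGrading 1 k) X₀ →+* Polynomial k := mv.toRingEquiv.toRingHom.comp c.symm.toRingHom
  haveI : IsIso (CommRingCat.ofHom g) := (c.symm.trans mv.toRingEquiv).toCommRingCatIso.isIso_hom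
  haveI : IsIso (Spec.map (CommRingCat.ofHom g)) := inferInstance
  haveI haw : IsOpenImmersion (Proj.awayι (CohB1.polyGrading 1 k) X₀ hX one_pos) := inferInstanceAs (IsOpenImmersion (Proj.awayι _ _ _ _))
  let j : Spec (CommRingCat.of (Polynomial k)) ⟶ CohB1.ProjSpace 1 k :=
    Spec.map (CommRingCat.ofHom g) ≫ Proj.awayι (CohB1.polyGrading 1 k) X₀ hX one_pos
  haveI : IsOpenImmersion j := @IsOpenImmersion.comp _ _ _ (Spec.map (CommRingCat.ofHom g)) (Proj.awayι (CohB1.polyGrading 1 k) X₀ hX one_pos) (IsOpenImmersion.of_isIso _) haw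
  refine exists_ratFunc_of_chart j ?_
  rw [hov]
  refine (Category.assoc _ _ _).trans ?_
  show _ ≫ _ ≫ Proj.toSpecZero (CohB1.polyGrading 1 k) ≫ _ = _
  rw [Proj.awayι_toSpecZero_assoc, ← Spec.map_comp, ← Spec.map_comp]
  congr 1
  ext1
  refine RingHom.ext fun r => ?_
  show g (GradedCechLib.cst 1 k X₀ r) = algebraMap k (Polynomial k) r
  have h1 : GradedCechLib.cst 1 k X₀ r = c (MvPolynomial.C r) := by
    show _ = GenusZeroLib.chartPoly 1 k 0 (MvPolynomial.C r)
    simp [GenusZeroLib.chartPoly, X₀]
  show mv (c.symm (GradedCechLib.cst 1 k X₀ r)) = _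
  rw [h1, RingEquiv.symm_apply_apply, ← MvPolynomial.algebraMap_eq, mv.commutes]

end CurveFFLib

end
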