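import Groth.Agent.HurwitzLib.Fiber
import Mathlib.AlgebraicGeometry.Birational.RationalMap
import Mathlib.AlgebraicGeometry.ValuativeCriterion

/-!
# Morphisms of normal curves from their function fields
-/

set_option autoImplicit false
set_option linter.style.haveILetI false
universe u

open CategoryTheory CategoryTheory.Limits AlgebraicGeometry TopologicalSpace

noncomputable section
set_option maxHeartbeats 400000

namespace CurveFFLib

variable {Y Z S : Scheme.{u}}

theorem isDominant_genericStalk [IsIntegral Y] : IsDominant (Y.fromSpecStalk (genericPoint Y)) := by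
  refine (isDominant_iff _).mpr (Dense.mono (s₁ := ({genericPoint Y} : Set Y)) ?_ ?_)
  · intro y hy
    rw [Set.mem_singleton_iff.mp hy, Y.range_fromSpecStalk]
    exact specializes_rfl
  · rw [dense_iff_closure_eq]
    exact (genericPoint_spec Y).def

/-- A point of the function field of a normal curve with values in a proper scheme extends. -/
theorem exists_hom_of_functionField [IsIntegral Y] [IsLocallyNoetherian Y]
    (hdim : topologicalKrullDim Y ≤ 1) (hn : Pi1.IsNormalScheme Y) (q : Y ⟶ S) (s : Z ⟶ S)
    [IsProper s] [S.IsSeparated] (φ : Spec Y.functionField ⟶ Z)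
    (hφ : φ ≫ s = Y.fromSpecStalk (genericPoint Y) ≫ q) :
    ∃ F : Y ⟶ Z, F ≫ s = q ∧ Y.fromSpecStalk (genericPoint Y) ≫ F = φ := by
  haveI : Z.IsSeparated := ⟨by
    rw [Limits.terminal.hom_ext (terminal.from Z) (s ≫ terminal.from S)]; infer_instance⟩
  let r : Y ⤏ Z := Scheme.RationalMap.ofFunctionField q s φ hφ
  have hr : r.fromFunctionField = φ := Scheme.RationalMap.fromFunctionField_ofFunctionField q s φ hφ
  have hdom : r.domain = ⊤ := by
    refine eq_top_iff.mpr fun y _ => ?_
    rw [Scheme.RationalMap.mem_domain]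
    by_cases hy : y = genericPoint Y
    · subst hy
      exact ⟨_, Scheme.PartialMap.mem_domain_ofFromSpecStalk q s φ hφ, rfl⟩
    haveI := HurwitzLib.dvr_stalk hdim hn hy
    have hsp : genericPoint Y ⤳ y := (genericPoint_spec Y).specializes trivial
    let j : Spec Y.functionField ⟶ Spec (Y.presheaf.stalk y) := Spec.map (Y.presheaf.stalkSpecializes hsp)
    have hsq : φ ≫ s = j ≫ (Y.fromSpecStalk y ≫ q) := by
      rw [hφ, ← Category.assoc, Scheme.SpecMap_stalkSpecializes_fromSpecStalk]
    have hj : Spec.map (CommRingCat.ofHom (algebraMap (Y.presheaf.stalk y) Y.functionField)) = j := rfl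
    have hval : ValuativeCriterion.Existence s := by
      have h := (IsProper.eq_valuativeCriterion ▸ ‹IsProper s› :
        (ValuativeCriterion ⊓ @QuasiCompact ⊓ @QuasiSeparated ⊓ @LocallyOfFiniteType) s)
      exact h.1.1.1.existence
    haveI hD : IsDomain (Y.presheaf.stalk y) := inferInstance
    haveI hV : ValuationRing (Y.presheaf.stalk y) := inferInstance
    have hlift := hval
      { R := Y.presheaf.stalk y, commRing := inferInstance, domain := hD, valuationRing := hV,
        K := Y.functionField, i₁ := φ, i₂ := Y.fromSpecStalk y ≫ q,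
        commSq := ⟨hsq.trans (congrArg (fun t => t ≫ (Y.fromSpecStalk y ≫ q)) hj.symm)⟩ }
    obtain ⟨⟨ψ, h1, h2⟩⟩ := hlift.exists_lift
    let g := Scheme.PartialMap.ofFromSpecStalk q s ψ h2
    have hg := Scheme.PartialMap.mem_domain_ofFromSpecStalk q s ψ h2
    refine ⟨g, hg, Scheme.RationalMap.eq_of_fromFunctionField_eq _ _ ?_⟩
    have hηg : genericPoint Y ∈ g.domain :=
      ((genericPoint_spec Y).mem_open_set_iff g.domain.2).mpr ⟨y, trivial, hg⟩
    have h3 : j ≫ g.fromSpecStalkOfMem hg = g.fromSpecStalkOfMem hηg := by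
      change _ ≫ g.domain.fromSpecStalkOfMem y hg ≫ g.hom =
        g.domain.fromSpecStalkOfMem (genericPoint Y) hηg ≫ g.hom
      rw [← Category.assoc]
      congr 1
      rw [← cancel_mono g.domain.ι]
      simp [j]
    rw [hr, Scheme.RationalMap.fromFunctionField_toRationalMap]
    refine h3.symm.trans ?_
    rw [Scheme.PartialMap.fromSpecStalkOfMem_ofFromSpecStalk]
    exact h1
  let g := r.toPartialMap
  have hgdom : g.domain = ⊤ := hdom
  let F : Y ⟶ Z := Y.topIso.inv ≫ (Y.isoOfEq hgdom).inv ≫ g.hom
  have hηg : genericPoint Y ∈ g.domain := by rw [hgdom]; trivial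
  have hF : Y.fromSpecStalk (genericPoint Y) ≫ F = φ := by
    rw [← hr, ← Scheme.RationalMap.toRationalMap_toPartialMap r, Scheme.RationalMap.fromFunctionField_toRationalMap]
    change _ ≫ F = g.domain.fromSpecStalkOfMem (genericPoint Y) hηg ≫ g.hom
    rw [← Category.assoc, ← Category.assoc]
    congr 1
    rw [← cancel_mono g.domain.ι]
    simp
  refine ⟨F, ?_, hF⟩
  haveI := isDominant_genericStalk (Y := Y)
  refine ext_of_isDominant (Y.fromSpecStalk (genericPoint Y)) ?_
  rw [← Category.assoc, hF, hφ]

/-- Two normal proper curves dominated by an integral scheme with the same function field inside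
that of the source are isomorphic. -/
theorem exists_iso_of_range_eq {X Y Y' : Scheme.{u}} [IsIntegral X] [IsIntegral Y] [IsIntegral Y']
    [IsLocallyNoetherian Y] [IsLocallyNoetherian Y'] [S.IsSeparated] (q : Y ⟶ S) (q' : Y' ⟶ S)
    [IsProper q] [IsProper q'] (hdim : topologicalKrullDim Y ≤ 1) (hn : Pi1.IsNormalScheme Y)
    (hdim' : topologicalKrullDim Y' ≤ 1) (hn' : Pi1.IsNormalScheme Y') (f : X ⟶ Y) (g : X ⟶ Y')
    (hfg : f ≫ q = g ≫ q') (e : f (genericPoint X) = genericPoint Y) (e' : g (genericPoint X) = genericPoint Y')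
    (h : ((Y.presheaf.stalkSpecializes (specializes_of_eq e) ≫ f.stalkMap (genericPoint X)).hom).range =
      ((Y'.presheaf.stalkSpecializes (specializes_of_eq e') ≫ g.stalkMap (genericPoint X)).hom).range) :
    ∃ i : Y ≅ Y', i.hom ≫ q' = q ∧ f ≫ i.hom = g := by
  let a : Y.functionField ⟶ X.functionField :=
    Y.presheaf.stalkSpecializes (specializes_of_eq e) ≫ f.stalkMap (genericPoint X)
  let b : Y'.functionField ⟶ X.functionField :=
    Y'.presheaf.stalkSpecializes (specializes_of_eq e') ≫ g.stalkMap (genericPoint X)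
  let ρa := RingEquiv.ofBijective a.hom.rangeRestrict
    ⟨fun x y hxy => RingHom.injective a.hom (congrArg Subtype.val hxy), a.hom.rangeRestrict_surjective⟩
  let ρb := RingEquiv.ofBijective b.hom.rangeRestrict
    ⟨fun x y hxy => RingHom.injective b.hom (congrArg Subtype.val hxy), b.hom.rangeRestrict_surjective⟩
  let θ : Y'.functionField ≅ Y.functionField :=
    (ρb.trans ((RingEquiv.subringCongr h.symm).trans ρa.symm)).toCommRingCatIso
  have hθ : θ.hom ≫ a = b := by
    ext x
    change a.hom (ρa.symm ((RingEquiv.subringCongr h.symm) (ρb x))) = b.hom x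
    exact congrArg Subtype.val (ρa.apply_symm_apply ((RingEquiv.subringCongr h.symm) (ρb x)))
  have hfa : Spec.map a ≫ Y.fromSpecStalk (genericPoint Y) = X.fromSpecStalk (genericPoint X) ≫ f := by
    rw [Spec.map_comp, Category.assoc, Scheme.SpecMap_stalkSpecializes_fromSpecStalk,
      Scheme.SpecMap_stalkMap_fromSpecStalk]
  have hgb : Spec.map b ≫ Y'.fromSpecStalk (genericPoint Y') = X.fromSpecStalk (genericPoint X) ≫ g := by
    rw [Spec.map_comp, Category.assoc, Scheme.SpecMap_stalkSpecializes_fromSpecStalk,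
      Scheme.SpecMap_stalkMap_fromSpecStalk]
  haveI : IsDominant (Spec.map a) := by
    rw [isDominant_iff]
    exact PrimeSpectrum.denseRange_comap_iff_ker_le_nilRadical a.hom |>.mpr (by
      rw [(RingHom.injective_iff_ker_eq_bot a.hom).mp (RingHom.injective a.hom)]
      exact bot_le)
  let φ := Spec.map θ.hom ≫ Y'.fromSpecStalk (genericPoint Y')
  have hφ : φ ≫ q' = Y.fromSpecStalk (genericPoint Y) ≫ q := by
    refine ext_of_isDominant (Spec.map a) ?_
    simp only [φ, ← Category.assoc, ← Spec.map_comp]
    rw [hθ, hgb, hfa, Category.assoc, Category.assoc, hfg]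
  let φ' := Spec.map θ.inv ≫ Y.fromSpecStalk (genericPoint Y)
  have hφ' : φ' ≫ q = Y'.fromSpecStalk (genericPoint Y') ≫ q' := by
    simp only [φ', Category.assoc, ← hφ, φ, ← Spec.map_comp_assoc, Iso.hom_inv_id, Spec.map_id,
      Category.id_comp]
  obtain ⟨F, hF1, hF2⟩ := exists_hom_of_functionField hdim hn q q' φ hφ
  obtain ⟨G, hG1, hG2⟩ := exists_hom_of_functionField hdim' hn' q' q φ' hφ'
  haveI := isDominant_genericStalk (Y := Y)
  haveI := isDominant_genericStalk (Y := Y')
  haveI := isDominant_genericStalk (Y := X)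
  refine ⟨⟨F, G, ?_, ?_⟩, hF1, ?_⟩
  · refine ext_of_isDominant_of_isSeparated q (by simp [hG1, hF1]) (Y.fromSpecStalk (genericPoint Y)) ?_
    rw [← Category.assoc, hF2, Category.comp_id]
    simp only [φ, Category.assoc, hG2, φ', ← Spec.map_comp_assoc, Iso.inv_hom_id, Spec.map_id,
      Category.id_comp]
  · refine ext_of_isDominant_of_isSeparated q' (by simp [hG1, hF1]) (Y'.fromSpecStalk (genericPoint Y')) ?_
    rw [← Category.assoc, hG2, Category.comp_id]
    simp only [φ', Category.assoc, hF2, φ, ← Spec.map_comp_assoc, Iso.hom_inv_id, Spec.map_id,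
      Category.id_comp]
  · refine ext_of_isDominant_of_isSeparated q' (by simp [hF1, hfg]) (X.fromSpecStalk (genericPoint X)) ?_
    change X.fromSpecStalk _ ≫ f ≫ F = _
    rw [← Category.assoc, ← hfa, Category.assoc, hF2, ← hgb]
    simp only [φ, ← Category.assoc, ← Spec.map_comp, hθ]

end CurveFFLib
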