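import Mathlib.FieldTheory.PurelyInseparable.PerfectClosure
import Mathlib.FieldTheory.IntermediateField.Adjoin.Basic

/-!
# Subfields with purely inseparable extension to a separably generated field of one variable
-/

set_option autoImplicit false
universe u

open IntermediateField

namespace CurveFFLib

variable {k K : Type u} [Field k] [Field K] [Algebra k K]

theorem adjoin_insert_eq_top (p : ℕ) [ExpChar K p] (t : K) [Algebra.IsSeparable k⟮t⟯ K]
    (M : IntermediateField k K) (ht : t ∈ M) (hM : ∀ x : K, ∃ n : ℕ, x ^ p ^ n ∈ M) : M = ⊤ := by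
  haveI : ExpChar k⟮t⟯ p := (algebraMap k⟮t⟯ K).expChar (RingHom.injective _) p
  refine eq_top_iff.mpr fun x _ => ?_
  obtain ⟨n, hn⟩ := hM x
  have hx : x ∈ (k⟮t⟯)⟮x ^ p ^ n⟯ := by
    rw [← adjoin_simple_eq_adjoin_pow_expChar_pow_of_isSeparable' k⟮t⟯ K x p n]
    exact mem_adjoin_simple_self _ x
  have hle : k⟮t⟯ ≤ M := adjoin_simple_le_iff.mpr ht
  have h2 : (k⟮t⟯)⟮x ^ p ^ n⟯ ≤ extendScalars hle := adjoin_simple_le_iff.mpr hn
  exact h2 hx

/-- A subfield over which `K` is finite purely inseparable is generated by the `p ^ r`-th powers. -/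
theorem exists_eq_adjoin_pow (p : ℕ) [ExpChar K p] (t : K) [Algebra.IsSeparable k⟮t⟯ K]
    (L : IntermediateField k K) [IsPurelyInseparable L K] :
    ∃ r : ℕ, L = adjoin k (Set.range fun x : K => x ^ p ^ r) := by
  haveI : ExpChar L p := (algebraMap L K).expChar (RingHom.injective _) p
  have htop : ∀ (M : IntermediateField k K), (∀ x : K, ∃ n : ℕ, x ^ p ^ n ∈ M) →
      adjoin k ((M : Set K) ∪ {t}) = ⊤ := fun M hM =>
    adjoin_insert_eq_top p t _ (subset_adjoin _ _ (Or.inr rfl)) fun x =>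
      (hM x).imp fun n hn => subset_adjoin _ _ (Or.inl hn)
  have htL : ∀ (M : IntermediateField k K), (∀ x : K, ∃ n : ℕ, x ^ p ^ n ∈ M) → M⟮t⟯ = ⊤ := fun M hM => by
    refine eq_top_iff.mpr fun x _ => ?_
    have hx : x ∈ adjoin k ((M : Set K) ∪ {t}) := by rw [htop M hM]; trivial
    have hle : adjoin k ((M : Set K) ∪ {t}) ≤ (M⟮t⟯).restrictScalars k := by
      refine adjoin_le_iff.mpr ?_
      rintro y (hy | hy)
      · exact IntermediateField.algebraMap_mem (M⟮t⟯) (⟨y, hy⟩ : M)
      · rw [Set.mem_singleton_iff.mp hy]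
        exact mem_adjoin_simple_self M t
    exact hle hx
  have hL : ∀ x : K, ∃ n : ℕ, x ^ p ^ n ∈ L := fun x => by
    obtain ⟨n, y, hy⟩ := IsPurelyInseparable.pow_mem L p x
    exact ⟨n, hy ▸ y.2⟩
  obtain ⟨r, a, hra⟩ := IsPurelyInseparable.minpoly_eq_X_pow_sub_C L p t
  have hint : IsIntegral L t := IsPurelyInseparable.isIntegral' L t
  have hpow : t ^ p ^ r ∈ L := by
    have h := minpoly.aeval L t
    rw [hra, map_sub, map_pow, Polynomial.aeval_X, Polynomial.aeval_C, sub_eq_zero] at h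
    rw [h]
    exact a.2
  have hr : ∀ x : K, x ^ p ^ r ∈ L := fun x => by
    have hx : x ∈ adjoin k ((L : Set K) ∪ {t}) := by rw [htop L hL]; trivial
    induction hx using adjoin_induction with
    | mem y hy =>
      rcases hy with hy | hy
      · exact pow_mem hy _
      · rw [Set.mem_singleton_iff.mp hy]; exact hpow
    | algebraMap c => exact pow_mem (L.algebraMap_mem c) _
    | add a b _ _ ha hb => rw [add_pow_expChar_pow]; exact add_mem ha hb
    | inv a _ ha => rw [inv_pow]; exact inv_mem ha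
    | mul a b _ _ ha hb => rw [mul_pow]; exact mul_mem ha hb
  refine ⟨r, ?_⟩
  let R := adjoin k (Set.range fun x : K => x ^ p ^ r)
  have hRL : R ≤ L := adjoin_le_iff.mpr (by rintro _ ⟨x, rfl⟩; exact hr x)
  have hR : ∀ x : K, ∃ n : ℕ, x ^ p ^ n ∈ R := fun x => ⟨r, subset_adjoin _ _ ⟨x, rfl⟩⟩
  have hintR : IsIntegral R t :=
    ⟨Polynomial.X ^ p ^ r - Polynomial.C (⟨t ^ p ^ r, subset_adjoin _ _ ⟨t, rfl⟩⟩ : R),
      Polynomial.monic_X_pow_sub_C _ (pow_ne_zero _ (expChar_pos K p).ne'),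
      by
        rw [Polynomial.eval₂_sub, Polynomial.eval₂_X_pow, Polynomial.eval₂_C]
        exact sub_self _⟩
  haveI : FiniteDimensional R K := by
    have h := adjoin.finiteDimensional hintR
    rw [htL R hR] at h
    exact Module.Finite.equiv (topEquiv (F := R) (E := K)).toLinearEquiv
  have e1 : Module.finrank R K ≤ p ^ r := by
    rw [← finrank_top' (F := R) (E := K), ← htL R hR, adjoin.finrank hintR]
    refine (Polynomial.natDegree_le_of_dvd (minpoly.dvd R t ?_) ?_).trans
      (Polynomial.natDegree_X_pow_sub_C (r := (⟨t ^ p ^ r, subset_adjoin _ _ ⟨t, rfl⟩⟩ : R))).le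
    · rw [map_sub, map_pow, Polynomial.aeval_X, Polynomial.aeval_C]
      exact sub_self _
    · exact Polynomial.X_pow_sub_C_ne_zero (pow_pos (expChar_pos K p) r) _
  have e2 : Module.finrank L K = p ^ r := by
    rw [← finrank_top' (F := L) (E := K), ← htL L hL, adjoin.finrank hint, hra, Polynomial.natDegree_X_pow_sub_C]
  exact (eq_of_le_of_finrank_le' hRL (e1.trans e2.ge)).symm

end CurveFFLib
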