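import Groth.Agent.CurveFFLib.Twist
import Groth.Agent.CurveFFLib.PInsep
import Groth.Agent.AlgSpLib.ReducedSmooth

/-!
# The function field of the Frobenius twist
-/

set_option autoImplicit false
set_option linter.style.haveILetI false
set_option linter.unusedSectionVars false
universe u

open CategoryTheory CategoryTheory.Limits AlgebraicGeometry TopologicalSpace
open IntermediateField

noncomputable section

namespace CurveFFLib

variable {k : Type u} [Field k] {X : Scheme.{u}} [X.Over (Spec (CommRingCat.of k))]

theorem fromSpecStalk_comp_hom (x : X) :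
    X.fromSpecStalk x ≫ (X ↘ Spec (CommRingCat.of k)) = Spec.map (CommRingCat.ofHom (Curv2.stalkMap k X x)) := by
  have hc : CommRingCat.ofHom (Curv2.stalkMap k X x) =
      (Scheme.ΓSpecIso (CommRingCat.of k)).inv ≫ (X ↘ Spec (CommRingCat.of k)).appTop ≫
        X.presheaf.germ ⊤ x trivial := rfl
  rw [hc, Spec.map_comp, Spec.map_comp, ← Scheme.fromSpecStalk_toSpecΓ]
  simp only [Category.assoc]
  congr 1
  rw [← Scheme.toSpecΓ_naturality_assoc]
  simp [toSpecΓ_SpecMap_ΓSpecIso_inv]

variable [IsIntegral X] (p : ℕ) [Fact p.Prime] [ExpChar k p] (r : ℕ)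

theorem irreducibleSpace_twist : IrreducibleSpace (twist k p X r) := by
  let ε := twistHomeo k p X r
  rw [irreducibleSpace_def]
  have h := (IrreducibleSpace.isIrreducible_univ X).image ε.symm ε.symm.continuous.continuousOn
  rwa [Set.image_univ, ε.symm.surjective.range_eq] at h

theorem twist_facts [Smooth (X ↘ Spec (CommRingCat.of k))] :
    letI : (twist k p X r).Over (Spec (CommRingCat.of k)) := ⟨twistHom k p X r⟩
    IsIntegral (twist k p X r) ∧ Pi1.IsNormalScheme (twist k p X r) ∧
      topologicalKrullDim (twist k p X r) = topologicalKrullDim X ∧ Smooth (twistHom k p X r) := by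
  letI : (twist k p X r).Over (Spec (CommRingCat.of k)) := ⟨twistHom k p X r⟩
  haveI hs : Smooth (twist k p X r ↘ Spec (CommRingCat.of k)) := MorphismProperty.pullback_snd _ _ ‹_›
  haveI := irreducibleSpace_twist (k := k) (X := X) p r
  haveI : IsReduced (twist k p X r) := AlgSpLib.isReduced_of_smooth (twist k p X r ↘ Spec (CommRingCat.of k))
  haveI : IsIntegral (twist k p X r) := isIntegral_of_irreducibleSpace_of_isReduced _
  exact ⟨inferInstance, HurwitzLib.isNormalScheme_of_smooth (k := k),
    IsHomeomorph.topologicalKrullDim_eq _ (twistHomeo k p X r).isHomeomorph, hs⟩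

variable {p r}

theorem relFrobIter_generic [IsIntegral (twist k p X r)] (Φ : X ⟶ twist k p X r)
    (hΦ : ∀ x : X, twistHomeo k p X r (Φ x) = x) : Φ (genericPoint X) = genericPoint (twist k p X r) := by
  let ε := twistHomeo k p X r
  have h : IsGenericPoint (ε (genericPoint (twist k p X r))) (Set.univ : Set X) := by
    have := (genericPoint_spec (twist k p X r)).image ε.continuous
    rwa [Set.image_univ, ε.surjective.range_eq, closure_univ] at this
  exact ε.injective ((hΦ _).trans ((genericPoint_spec X).eq h))

variable (p r)

/-- The function field of the twist inside that of `X`. -/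
theorem range_relFrobIter [IsIntegral (twist k p X r)] (Φ : X ⟶ twist k p X r)
    (hΦs : Φ ≫ twistHom k p X r = X ↘ Spec (CommRingCat.of k))
    (hΦ : ∀ x : X, twistHomeo k p X r (Φ x) = x ∧
      X.fromSpecStalk x ≫ Φ ≫ pullback.fst _ _ =
        (letI := Curv2.stalkAlgebra k X x
         haveI : CharP k p := charP_of_expChar k p
         haveI : CharP (X.presheaf.stalk x) p :=
           charP_of_injective_algebraMap (algebraMap k (X.presheaf.stalk x)).injective p
         haveI : ExpChar (X.presheaf.stalk x) p := ExpChar.prime Fact.out
         Spec.map (CommRingCat.ofHom (iterateFrobenius (X.presheaf.stalk x) p r)) ≫ X.fromSpecStalk x))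
    (e : Φ (genericPoint X) = genericPoint (twist k p X r)) :
    letI : Algebra k X.functionField := Curv2.stalkAlgebra k X (genericPoint X)
    (((twist k p X r).presheaf.stalkSpecializes (specializes_of_eq e) ≫ Φ.stalkMap (genericPoint X)).hom).range =
      (adjoin k (Set.range fun x : X.functionField => x ^ p ^ r)).toSubfield.toSubring := by
  letI algK : Algebra k X.functionField := Curv2.stalkAlgebra k X (genericPoint X)
  haveI : CharP k p := charP_of_expChar k p
  haveI : CharP X.functionField p := charP_of_injective_algebraMap (algebraMap k X.functionField).injective p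
  haveI : ExpChar X.functionField p := ExpChar.prime Fact.out
  let P := twist k p X r
  let π := pullback.fst (X ↘ Spec (CommRingCat.of k)) (Spec.map (CommRingCat.ofHom (iterateFrobenius k p r)))
  let a : P.functionField ⟶ X.functionField :=
    P.presheaf.stalkSpecializes (specializes_of_eq e) ≫ Φ.stalkMap (genericPoint X)
  have hfa : Spec.map a ≫ P.fromSpecStalk (genericPoint P) = X.fromSpecStalk (genericPoint X) ≫ Φ := by
    rw [Spec.map_comp, Category.assoc, Scheme.SpecMap_stalkSpecializes_fromSpecStalk,
      Scheme.SpecMap_stalkMap_fromSpecStalk]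
  let L := adjoin k (Set.range fun x : X.functionField => x ^ p ^ r)
  have hfst : Spec.map a ≫ P.fromSpecStalk (genericPoint P) ≫ π =
      Spec.map (CommRingCat.ofHom (iterateFrobenius X.functionField p r)) ≫ X.fromSpecStalk (genericPoint X) := by
    rw [← Category.assoc, hfa, Category.assoc]
    exact (hΦ (genericPoint X)).2
  have hsnd : Spec.map a ≫ P.fromSpecStalk (genericPoint P) ≫ twistHom k p X r =
      Spec.map (CommRingCat.ofHom (algebraMap k X.functionField)) := by
    rw [← Category.assoc, hfa, Category.assoc, hΦs, fromSpecStalk_comp_hom]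
  apply le_antisymm
  · -- lift through the subfield
    let fr : X.functionField →+* L := (iterateFrobenius X.functionField p r).codRestrict L fun x => by
      rw [iterateFrobenius_def]; exact subset_adjoin _ _ ⟨x, rfl⟩
    let ι : CommRingCat.of L ⟶ X.functionField := CommRingCat.ofHom L.val.toRingHom
    have hfr : CommRingCat.ofHom fr ≫ ι = CommRingCat.ofHom (iterateFrobenius X.functionField p r) := rfl
    have hk : CommRingCat.ofHom (algebraMap k L) ≫ ι = CommRingCat.ofHom (algebraMap k X.functionField) := rfl
    haveI : IsDominant (Spec.map ι) := by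
      rw [isDominant_iff]
      exact PrimeSpectrum.denseRange_comap_iff_ker_le_nilRadical ι.hom |>.mpr (by
        rw [(RingHom.injective_iff_ker_eq_bot ι.hom).mp (RingHom.injective ι.hom)]
        exact bot_le)
    have hcond : (Spec.map (CommRingCat.ofHom fr) ≫ X.fromSpecStalk (genericPoint X)) ≫ (X ↘ Spec (CommRingCat.of k)) =
        Spec.map (CommRingCat.ofHom (algebraMap k L)) ≫ Spec.map (CommRingCat.ofHom (iterateFrobenius k p r)) := by
      rw [Category.assoc, fromSpecStalk_comp_hom, ← Spec.map_comp, ← Spec.map_comp]
      congr 1
      ext c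
      exact ((iterateFrobenius_def (R := X.functionField) p r _).trans
        ((map_pow (algebraMap k X.functionField) c (p ^ r)).symm.trans
          (congrArg (algebraMap k X.functionField) (iterateFrobenius_def (R := k) p r c).symm)))
    let j : Spec (CommRingCat.of L) ⟶ P := pullback.lift (Spec.map (CommRingCat.ofHom fr) ≫ X.fromSpecStalk (genericPoint X))
      (Spec.map (CommRingCat.ofHom (algebraMap k L))) hcond
    have hj : Spec.map ι ≫ j = Spec.map a ≫ P.fromSpecStalk (genericPoint P) := by
      apply pullback.hom_ext
      · rw [Category.assoc, pullback.lift_fst, ← Category.assoc, ← Spec.map_comp, hfr, Category.assoc]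
        exact hfst.symm
      · rw [Category.assoc, pullback.lift_snd, ← Spec.map_comp, hk, Category.assoc]
        exact hsnd.symm
    have hpt : j (IsLocalRing.closedPoint L) = genericPoint P := by
      have h1 : (Spec.map ι ≫ j) (IsLocalRing.closedPoint X.functionField) = genericPoint P := by
        rw [hj, Scheme.Hom.comp_apply]
        have := Subsingleton.elim (α := PrimeSpectrum P.functionField)
          (Spec.map a (IsLocalRing.closedPoint X.functionField)) (IsLocalRing.closedPoint P.functionField)
        rw [this, P.fromSpecStalk_closedPoint]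
      rw [← h1, Scheme.Hom.comp_apply]
      exact congrArg j (Subsingleton.elim (α := PrimeSpectrum L) _ _)
    let ψ : P.functionField ⟶ CommRingCat.of L :=
      P.presheaf.stalkSpecializes (specializes_of_eq hpt) ≫ Scheme.stalkClosedPointTo j
    have hψ : ψ ≫ ι = a := by
      apply Spec.map_injective
      rw [← cancel_mono (P.fromSpecStalk (genericPoint P)), ← hj, Spec.map_comp, Category.assoc]
      congr 1
      rw [Spec.map_comp, Category.assoc, Scheme.SpecMap_stalkSpecializes_fromSpecStalk,
        Scheme.Spec_stalkClosedPointTo_fromSpecStalk]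
    rintro _ ⟨z, rfl⟩
    change a.hom z ∈ L
    rw [← hψ]
    exact (ψ.hom z).2
  · intro z hz
    change z ∈ L at hz
    have hπ : π (genericPoint P) = genericPoint X := by rw [← e]; exact (hΦ _).1
    let b : X.functionField ⟶ P.functionField :=
      X.presheaf.stalkSpecializes (specializes_of_eq hπ) ≫ π.stalkMap (genericPoint P)
    have hb : b ≫ a = CommRingCat.ofHom (iterateFrobenius X.functionField p r) := by
      apply Spec.map_injective
      rw [← cancel_mono (X.fromSpecStalk (genericPoint X)), ← hfst, Spec.map_comp, Category.assoc]
      congr 1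
      rw [Spec.map_comp, Category.assoc, Scheme.SpecMap_stalkSpecializes_fromSpecStalk,
        Scheme.SpecMap_stalkMap_fromSpecStalk]
    letI : (twist k p X r).Over (Spec (CommRingCat.of k)) := ⟨twistHom k p X r⟩
    let S : IntermediateField k X.functionField :=
      { a.hom.fieldRange with
        algebraMap_mem' := fun c => ⟨Curv2.stalkMap k P (genericPoint P) c, by
          have h : CommRingCat.ofHom (Curv2.stalkMap k P (genericPoint P)) ≫ a =
              CommRingCat.ofHom (algebraMap k X.functionField) := by
            apply Spec.map_injective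
            rw [Spec.map_comp, ← fromSpecStalk_comp_hom (X := P) (genericPoint P), ← hsnd]
            rfl
          exact congr($h c)⟩ }
    have hle : L ≤ S := by
      refine adjoin_le_iff.mpr ?_
      rintro _ ⟨x, rfl⟩
      exact ⟨b.hom x, (congr($hb x)).trans (iterateFrobenius_def (R := X.functionField) p r x)⟩
    exact hle hz

end CurveFFLib
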