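import Groth.Agent.CurveFFLib.Extend
import Groth.Agent.HurwitzLib.SmoothCurve
import Groth.Agent.S14929
import Groth.Agent.S0415
import Groth.Prelude.Def_W4c3convisocdirimgFrobIter
import Mathlib.FieldTheory.IntermediateField.Adjoin.Basic

/-!
# The iterated Frobenius twist of a scheme over a field
-/

set_option autoImplicit false
set_option linter.style.haveILetI false
set_option linter.unusedSectionVars false
universe u

open CategoryTheory CategoryTheory.Limits AlgebraicGeometry TopologicalSpace

noncomputable section

namespace CurveFFLib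

section frobIter

variable {p : ℕ} [Fact p.Prime] {X Y : Scheme.{u}}

theorem frobIter_comp (f : X ⟶ Y) [FrobSch.IsCharP X p] [FrobSch.IsCharP Y p] (n : ℕ) :
    FrobSch.frobIter X p n ≫ f = f ≫ FrobSch.frobIter Y p n := by
  induction n with
  | zero => simp
  | succ n ih =>
    rw [FrobSch.frobIter_succ, FrobSch.frobIter_succ, Category.assoc, ih, ← Category.assoc,
      FrobSch.frob_comp, Category.assoc]

theorem frobIter_apply [FrobSch.IsCharP X p] (n : ℕ) (x : X) : FrobSch.frobIter X p n x = x := by
  induction n with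
  | zero => rfl
  | succ n ih => exact ih

theorem frobIter_appTop [FrobSch.IsCharP X p] (n : ℕ) (s : Γ(X, ⊤)) :
    (FrobSch.frobIter X p n).appTop s = s ^ p ^ n := by
  induction n with
  | zero => simp
  | succ n ih =>
    rw [FrobSch.frobIter_succ, Scheme.Hom.comp_appTop, CommRingCat.comp_apply, ih, FrobSch.frob_appTop,
      ← pow_mul, pow_succ]

theorem frobIter_spec (R : Type u) [CommRing R] [CharP R p] [ExpChar R p] (n : ℕ) :
    FrobSch.frobIter (Spec (CommRingCat.of R)) p n = Spec.map (CommRingCat.ofHom (iterateFrobenius R p n)) := by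
  refine ext_of_isAffine ?_
  ext s
  obtain ⟨a, rfl⟩ : ∃ a, (Scheme.ΓSpecIso (CommRingCat.of R)).inv a = s :=
    ⟨(Scheme.ΓSpecIso (CommRingCat.of R)).hom s, by simp⟩
  change (FrobSch.frobIter _ p n).appTop _ = _
  rw [frobIter_appTop, ← map_pow]
  exact congr($(Scheme.ΓSpecIso_inv_naturality (CommRingCat.ofHom (iterateFrobenius R p n))) a)

theorem frobIter_props [FrobSch.IsCharP X p] (n : ℕ) :
    IsIntegralHom (FrobSch.frobIter X p n) ∧ UniversallyInjective (FrobSch.frobIter X p n) ∧
      Surjective (FrobSch.frobIter X p n) := by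
  induction n with
  | zero => exact ⟨inferInstanceAs (IsIntegralHom (𝟙 X)), inferInstanceAs (UniversallyInjective (𝟙 X)),
      inferInstanceAs (Surjective (𝟙 X))⟩
  | succ n ih =>
    obtain ⟨h1, h2, h3⟩ := ih
    obtain ⟨hX, hXi, -⟩ := Groth.Agent.S14929.result p X
    obtain ⟨-, hXu, hXs⟩ := (Groth.Agent.S0415.result _).mp hX
    rw [FrobSch.frobIter_succ]
    exact ⟨inferInstance, MorphismProperty.comp_mem @UniversallyInjective _ _ hXu h2, inferInstance⟩

end frobIter

variable (k : Type u) [Field k] (p : ℕ) [Fact p.Prime] [ExpChar k p] (X : Scheme.{u})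
  [X.Over (Spec (CommRingCat.of k))] (r : ℕ)

/-- The `r`-fold Frobenius twist. -/
abbrev twist : Scheme.{u} :=
  pullback (X ↘ Spec (CommRingCat.of k)) (Spec.map (CommRingCat.ofHom (iterateFrobenius k p r)))

abbrev twistHom : twist k p X r ⟶ Spec (CommRingCat.of k) :=
  pullback.snd (X ↘ Spec (CommRingCat.of k)) (Spec.map (CommRingCat.ofHom (iterateFrobenius k p r)))

theorem charP_of_expChar : CharP k p := by
  haveI : ExpChar k p := inferInstance
  cases ‹ExpChar k p› with
  | zero => exact absurd (Fact.out : Nat.Prime 1) Nat.not_prime_one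
  | prime _ => assumption

theorem frobSpec_props : IsIntegralHom (Spec.map (CommRingCat.ofHom (iterateFrobenius k p r))) ∧
    UniversallyInjective (Spec.map (CommRingCat.ofHom (iterateFrobenius k p r))) ∧
    Surjective (Spec.map (CommRingCat.ofHom (iterateFrobenius k p r))) := by
  haveI := charP_of_expChar k p
  rw [← frobIter_spec]
  exact frobIter_props r

/-- The projection of the twist is a homeomorphism. -/
def twistHomeo : twist k p X r ≃ₜ X :=
  haveI := (frobSpec_props k p r).1
  haveI := (frobSpec_props k p r).2.1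
  haveI := (frobSpec_props k p r).2.2
  let π := pullback.fst (X ↘ Spec (CommRingCat.of k)) (Spec.map (CommRingCat.ofHom (iterateFrobenius k p r)))
  haveI : IsIntegralHom π := MorphismProperty.pullback_fst _ _ (frobSpec_props k p r).1
  haveI : UniversallyInjective π := MorphismProperty.pullback_fst _ _ (frobSpec_props k p r).2.1
  haveI : Surjective π := MorphismProperty.pullback_fst _ _ (frobSpec_props k p r).2.2
  (Equiv.ofBijective π ⟨π.injective, π.surjective⟩).toHomeomorphOfContinuousClosed π.continuous π.isClosedMap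

theorem exists_relFrobIter : ∃ Φ : X ⟶ twist k p X r,
    Φ ≫ twistHom k p X r = X ↘ Spec (CommRingCat.of k) ∧
    ∀ x : X, twistHomeo k p X r (Φ x) = x ∧
      X.fromSpecStalk x ≫ Φ ≫ pullback.fst _ _ =
        (letI := Curv2.stalkAlgebra k X x
         haveI : CharP k p := charP_of_expChar k p
         haveI : CharP (X.presheaf.stalk x) p := charP_of_injective_algebraMap (algebraMap k (X.presheaf.stalk x)).injective p
         haveI : ExpChar (X.presheaf.stalk x) p := ExpChar.prime Fact.out
         Spec.map (CommRingCat.ofHom (iterateFrobenius (X.presheaf.stalk x) p r)) ≫ X.fromSpecStalk x) := by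
  haveI := charP_of_expChar k p
  haveI : FrobSch.IsCharP X p := FrobSch.IsCharP.of_hom (X ↘ Spec (CommRingCat.of k)) p
  refine ⟨pullback.lift (FrobSch.frobIter X p r) (X ↘ Spec (CommRingCat.of k))
    (by rw [frobIter_comp, frobIter_spec]), pullback.lift_snd _ _ _, fun x => ⟨?_, ?_⟩⟩
  · change (pullback.fst (X ↘ Spec (CommRingCat.of k)) (Spec.map (CommRingCat.ofHom (iterateFrobenius k p r))))
      ((pullback.lift _ _ _ : X ⟶ twist k p X r) x) = x
    rw [← Scheme.Hom.comp_apply, pullback.lift_fst, frobIter_apply]
  · letI := Curv2.stalkAlgebra k X x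
    haveI : CharP (X.presheaf.stalk x) p := charP_of_injective_algebraMap (algebraMap k (X.presheaf.stalk x)).injective p
    haveI : ExpChar (X.presheaf.stalk x) p := ExpChar.prime Fact.out
    rw [pullback.lift_fst, ← frobIter_comp]
    congr 1
    exact frobIter_spec (X.presheaf.stalk x) r

end CurveFFLib
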