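import Groth.Agent.CurveDualLib.Places
import Groth.Agent.CurveFFLib.Extend
import Groth.Agent.PlaneCurveLib.Cover
import Groth.Agent.FFLib.Basic

/-!
# Morphisms of curves and maps of function fields; fixed points and fixed places
-/

set_option autoImplicit false
set_option linter.style.haveILetI false
set_option linter.unusedSectionVars false
universe u

open CategoryTheory CategoryTheory.Limits AlgebraicGeometry TopologicalSpace

noncomputable section

namespace CurveFFLib

attribute [local instance] CurveDualLib.algFF

variable {k : Type u} [Field k] {X Y : Scheme.{u}} [X.Over (Spec (CommRingCat.of k))]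
  [Y.Over (Spec (CommRingCat.of k))] [IsIntegral X] [IsIntegral Y]

/-- The point of a curve over its function field, as a morphism. -/
abbrev genPt (X : Scheme.{u}) [IsIntegral X] : Spec X.functionField ⟶ X := X.fromSpecStalk (genericPoint X)

theorem genPt_structure : genPt X ≫ (X ↘ Spec (CommRingCat.of k)) =
    Spec.map (CommRingCat.ofHom (algebraMap k X.functionField)) := by
  have h : (X ↘ Spec (CommRingCat.of k)) = X.toSpecΓ ≫
      Spec.map ((Scheme.ΓSpecIso (CommRingCat.of k)).inv ≫ (X ↘ Spec (CommRingCat.of k)).appTop) := by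
    rw [Spec.map_comp, ← Category.assoc, ← Scheme.toSpecΓ_naturality, Category.assoc,
      ← SpecMap_ΓSpecIso_hom, ← Spec.map_comp, Iso.inv_hom_id, Spec.map_id, Category.comp_id]
  rw [h, ← Category.assoc, Scheme.fromSpecStalk_toSpecΓ, ← Spec.map_comp]
  congr 1

/-- The morphism on the generic points given by a map of function fields lies over the base. -/
theorem genPt_comp_structure (ψ : Y.functionField →ₐ[k] X.functionField) :
    (Spec.map (CommRingCat.ofHom ψ.toRingHom) ≫ genPt Y) ≫ (Y ↘ Spec (CommRingCat.of k)) =
      genPt X ≫ (X ↘ Spec (CommRingCat.of k)) := by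
  rw [Category.assoc, genPt_structure, genPt_structure, ← Spec.map_comp, ← CommRingCat.ofHom_comp]
  congr 2
  exact RingHom.ext fun c => ψ.commutes c

/-- A map of function fields extends to a morphism of curves. -/
theorem exists_hom_of_algHom [Smooth (X ↘ Spec (CommRingCat.of k))] (hdim : topologicalKrullDim X = 1)
    [IsProper (Y ↘ Spec (CommRingCat.of k))] (ψ : Y.functionField →ₐ[k] X.functionField) :
    ∃ F : X ⟶ Y, F ≫ (Y ↘ Spec (CommRingCat.of k)) = X ↘ Spec (CommRingCat.of k) ∧
      genPt X ≫ F = Spec.map (CommRingCat.ofHom ψ.toRingHom) ≫ genPt Y := by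
  haveI : IsLocallyNoetherian X := LocallyOfFiniteType.isLocallyNoetherian (X ↘ Spec (CommRingCat.of k))
  exact exists_hom_of_functionField hdim.le (HurwitzLib.isNormalScheme_of_smooth (k := k))
    (X ↘ Spec (CommRingCat.of k)) (Y ↘ Spec (CommRingCat.of k)) _ (genPt_comp_structure ψ)

/-- A morphism is determined by what it does on the generic point. -/
theorem hom_ext_gen [IsSeparated (Y ↘ Spec (CommRingCat.of k))] {F G : X ⟶ Y}
    (hF : F ≫ (Y ↘ Spec (CommRingCat.of k)) = G ≫ (Y ↘ Spec (CommRingCat.of k)))
    (h : genPt X ≫ F = genPt X ≫ G) : F = G := by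
  haveI := isDominant_genericStalk (Y := X)
  exact ext_of_isDominant_of_isSeparated (Y ↘ Spec (CommRingCat.of k)) hF (genPt X) h

omit [X.Over (Spec (CommRingCat.of k))] [Y.Over (Spec (CommRingCat.of k))] in
theorem gen_of_genPt {F : X ⟶ Y} {a : Y.functionField ⟶ X.functionField}
    (h : genPt X ≫ F = Spec.map a ≫ genPt Y) : F (genericPoint X) = genericPoint Y := by
  have h1 : genPt X (IsLocalRing.closedPoint X.functionField) = genericPoint X :=
    Scheme.fromSpecStalk_closedPoint
  have h2 := congrArg (fun φ : Spec X.functionField ⟶ Y => φ (IsLocalRing.closedPoint X.functionField)) h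
  simp only [Scheme.Hom.comp_apply, h1] at h2
  rw [h2, show Spec.map a (IsLocalRing.closedPoint X.functionField) = IsLocalRing.closedPoint Y.functionField from
    Subsingleton.elim (α := PrimeSpectrum Y.functionField) _ _]
  exact Scheme.fromSpecStalk_closedPoint

omit [X.Over (Spec (CommRingCat.of k))] [Y.Over (Spec (CommRingCat.of k))] in
theorem stalkMap_of_genPt {F : X ⟶ Y} {a : Y.functionField ⟶ X.functionField}
    (h : genPt X ≫ F = Spec.map a ≫ genPt Y) :
    Y.presheaf.stalkSpecializes (specializes_of_eq (gen_of_genPt h)) ≫ F.stalkMap (genericPoint X) = a := by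
  refine Spec.map_injective ?_
  rw [← cancel_mono (genPt Y), ← h, Spec.map_comp, Category.assoc,
    Scheme.SpecMap_stalkSpecializes_fromSpecStalk, Scheme.SpecMap_stalkMap_fromSpecStalk]

/-- The map of function fields of a dominant morphism. -/
theorem exists_algHom_of_hom {F : X ⟶ Y}
    (hF : F ≫ (Y ↘ Spec (CommRingCat.of k)) = X ↘ Spec (CommRingCat.of k))
    (e : F (genericPoint X) = genericPoint Y) :
    ∃ ψ : Y.functionField →ₐ[k] X.functionField,
      genPt X ≫ F = Spec.map (CommRingCat.ofHom ψ.toRingHom) ≫ genPt Y := by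
  refine ⟨⟨(Y.presheaf.stalkSpecializes (specializes_of_eq e) ≫ F.stalkMap (genericPoint X)).hom,
    fun c => ff_scalar hF e c⟩, ?_⟩
  change _ = Spec.map (Y.presheaf.stalkSpecializes (specializes_of_eq e) ≫ F.stalkMap (genericPoint X)) ≫ _
  rw [Spec.map_comp, Category.assoc, Scheme.SpecMap_stalkSpecializes_fromSpecStalk,
    Scheme.SpecMap_stalkMap_fromSpecStalk]

section Finrank

variable [Smooth (X ↘ Spec (CommRingCat.of k))] [IsProper (X ↘ Spec (CommRingCat.of k))]
  [Smooth (Y ↘ Spec (CommRingCat.of k))] [IsProper (Y ↘ Spec (CommRingCat.of k))]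
  (hdim : topologicalKrullDim X = 1) (hdimY : topologicalKrullDim Y = 1)

include k hdim hdimY in
/-- The degree of a finite flat map is that of the extension of function fields. -/
theorem finrank_gen (f : X ⟶ Y) [IsFinite f] [Flat f] {ψ : Y.functionField →ₐ[k] X.functionField}
    (h : genPt X ≫ f = Spec.map (CommRingCat.ofHom ψ.toRingHom) ≫ genPt Y) :
    letI := ψ.toRingHom.toAlgebra
    Module.finrank Y.functionField X.functionField = f.finrank (genericPoint Y) := by
  haveI := CurvLib.isNoetherian k (X := X)
  haveI := CurvLib.isNoetherian k (X := Y)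
  have hgen := gen_of_genPt h
  have hψ : ψ.toRingHom = (Y.presheaf.stalkSpecializes (specializes_of_eq hgen) ≫ f.stalkMap (genericPoint X)).hom :=
    (congrArg CommRingCat.Hom.hom (stalkMap_of_genPt h)).symm
  letI : Algebra Y.functionField X.functionField := ψ.toRingHom.toAlgebra
  show Module.finrank Y.functionField X.functionField = _
  have hfib : ∀ z, f z = f (genericPoint X) → z = genericPoint X := fun z hz => by
    by_contra hne
    have h1 := f.isClosedMap _ (CurveDualLib.isClosed_of_ne_generic (k := k) hdim hne)
    rw [Set.image_singleton, hz, hgen] at h1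
    exact GenusZeroLib.ne_genericPoint_of_isClosed hdimY h1 rfl
  rw [← AVAmpleLib.genRank_push_structure f, CurvLib.genRank,
    DegPullLib.finrank_stalk_push f f.isClosedMap CurvLib.isInvertible_structureModule hfib _ hgen rfl]
  letI : Algebra (Y.residueField (f (genericPoint X))) (X.residueField (genericPoint X)) :=
    (f.residueFieldMap (genericPoint X)).hom.toAlgebra
  have hb : ∀ {R : Type u} [CommRing R] [IsLocalRing R], IsField R → Function.Bijective (IsLocalRing.residue R) := by
    intro R _ _ h
    refine ⟨(RingHom.injective_iff_ker_eq_bot _).mpr ?_, IsLocalRing.residue_surjective⟩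
    rw [IsLocalRing.ker_residue]
    exact (IsLocalRing.isField_iff_maximalIdeal_eq).mp h
  have hX : IsField (X.presheaf.stalk (genericPoint X)) := (inferInstance : Field X.functionField).toIsField
  have hY : IsField (Y.presheaf.stalk (f (genericPoint X))) := GeomRedFieldLib.isField_stalk_generic hgen
  let e : Y.functionField ≃+* Y.residueField (f (genericPoint X)) :=
    (Y.presheaf.stalkCongr (Inseparable.of_eq hgen)).symm.commRingCatIsoToRingEquiv.trans
      (RingEquiv.ofBijective _ (hb hY))
  show Module.finrank Y.functionField X.functionField = Module.finrank (Y.residueField (f (genericPoint X))) (X.residueField (genericPoint X))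
  refine Algebra.finrank_eq_of_equiv_equiv e (RingEquiv.ofBijective _ (hb hX)) (RingHom.ext fun c => ?_)
  change _ = IsLocalRing.residue _ (ψ.toRingHom c)
  rw [hψ]
  exact IsLocalRing.ResidueField.map_residue (f.stalkMap (genericPoint X)).hom
    (Y.presheaf.stalkSpecializes (specializes_of_eq hgen) c)

end Finrank

section Fixed

variable [Smooth (X ↘ Spec (CommRingCat.of k))] [IsProper (X ↘ Spec (CommRingCat.of k))]
  (hdim : topologicalKrullDim X = 1) {F : X ⟶ X}
  (hF : F ≫ (X ↘ Spec (CommRingCat.of k)) = X ↘ Spec (CommRingCat.of k))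
  {τ : X.functionField ≃ₐ[k] X.functionField}
  (hτ : genPt X ≫ F = Spec.map (CommRingCat.ofHom (τ : X.functionField →ₐ[k] X.functionField).toRingHom) ≫ genPt X)

include hF in
theorem isClosed_image {x : X} (hx : IsClosed ({x} : Set X)) : IsClosed ({F x} : Set X) := by
  haveI : IsProper (F ≫ (X ↘ Spec (CommRingCat.of k))) := by rw [hF]; infer_instance
  haveI : IsProper F := IsProper.of_comp F (X ↘ Spec (CommRingCat.of k))
  rw [← Set.image_singleton]
  exact F.isClosedMap _ hx

include hτ in
theorem ptVal_image {x : X} (hx : IsClosed ({x} : Set X)) (hFx : IsClosed ({F x} : Set X)) (z : X.functionField) :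
    (CurveDualLib.ptPlace (k := k) hdim hFx).1 z = (CurveDualLib.ptPlace (k := k) hdim hx).1 (τ z) := by
  let P := CurveDualLib.ptPlace (k := k) hdim hx
  let P' : FunFld.Place k X.functionField :=
    ⟨P.1.comap (τ : X.functionField →ₐ[k] X.functionField).toRingHom, fun c => by
      show P.1 (τ (algebraMap k X.functionField c)) ≤ 1
      rw [τ.commutes]
      exact P.2.1 c, fun w => by
      obtain ⟨y, hy⟩ := P.2.2 w
      exact ⟨τ.symm y, by show P.1 (τ (τ.symm y)) = w; rw [τ.apply_symm_apply]; exact hy⟩⟩
  have key : CurveDualLib.ptPlace (k := k) hdim hFx = P' := by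
    refine Groth.Agent.FFLib.place_ext_of_le _ _ fun y hy => ?_
    obtain ⟨b, rfl⟩ := (CurveDualLib.ptVal_le_one_iff (k := k) hdim hFx y).1 hy
    show P.1 (τ _) ≤ 1
    refine (CurveDualLib.ptVal_le_one_iff (k := k) hdim hx _).2 ⟨F.stalkMap x b, ?_⟩
    have hsq := F.stalkSpecializes_stalkMap (genericPoint X) x ((genericPoint_spec X).specializes trivial)
    have hst := stalkMap_of_genPt hτ
    have h1 := congrArg (fun φ : X.presheaf.stalk (F x) ⟶ X.functionField => φ b) hsq
    have h2 := congrArg (fun φ : X.functionField ⟶ X.functionField =>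
      φ (algebraMap (X.presheaf.stalk (F x)) X.functionField b)) hst
    refine h1.symm.trans (Eq.trans ?_ h2)
    change F.stalkMap (genericPoint X) _ = F.stalkMap (genericPoint X) _
    congr 1
    exact (TopCat.Presheaf.stalkSpecializes_comp_apply X.presheaf _ _ b).symm
  rw [key]
  rfl

omit [IsProper (X ↘ Spec (CommRingCat.of k))] in
theorem ptPlace_congr {x y : X} (h : x = y) (hx : IsClosed ({x} : Set X)) (hy : IsClosed ({y} : Set X)) :
    CurveDualLib.ptPlace (k := k) hdim hx = CurveDualLib.ptPlace (k := k) hdim hy := by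
  subst h
  rfl

include hdim hF hτ in
/-- The closed fixed points are the fixed places. -/
theorem card_fixed :
    Nat.card {x : X // IsClosed ({x} : Set X) ∧ F x = x} =
      Nat.card {Q : FunFld.Place k X.functionField // ∀ z, Q.1 (τ z) = Q.1 z} := by
  refine Nat.card_eq_of_bijective (fun x => ⟨CurveDualLib.ptPlace (k := k) hdim x.2.1, fun z => ?_⟩) ⟨?_, ?_⟩
  · rw [← ptVal_image hdim hτ x.2.1 (isClosed_image hF x.2.1)]
    exact congrArg (fun P : FunFld.Place k X.functionField => P.1 z) (ptPlace_congr hdim x.2.2 _ _)
  · intro x y h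
    exact Subtype.ext (CurveDualLib.ptPlace_injective (k := k) hdim x.2.1 y.2.1 (congrArg Subtype.val h))
  · rintro ⟨Q, hQ⟩
    obtain ⟨x, hx, rfl⟩ := CurveDualLib.exists_point (k := k) hdim Q
    refine ⟨⟨x, hx, CurveDualLib.ptPlace_injective (k := k) hdim (isClosed_image hF hx) hx (Subtype.ext (Valuation.ext fun z => ?_))⟩, rfl⟩
    rw [ptVal_image hdim hτ hx]
    exact hQ z

include k hdim in
/-- A curve has infinitely many closed points. -/
theorem infinite_closed : {x : X | IsClosed ({x} : Set X)}.Infinite := by
  intro hfin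
  haveI : JacobsonSpace X := LocallyOfFiniteType.jacobsonSpace (X ↘ Spec (CommRingCat.of k))
  have hcl : IsClosed (closedPoints X) := by
    rw [← Set.biUnion_of_singleton (closedPoints X)]
    exact hfin.isClosed_biUnion fun x hx => hx
  have h := closure_closedPoints (X := X)
  rw [hcl.closure_eq] at h
  have hη : genericPoint X ∈ closedPoints X := h ▸ Set.mem_univ _
  exact GenusZeroLib.ne_genericPoint_of_isClosed hdim hη rfl

end Fixed

end CurveFFLib
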