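import Groth.Agent.CurveFFLib.Auto
import Groth.Agent.FFLib.Invol
import Groth.Agent.S14339
import Groth.Agent.S0220
import Groth.Agent.RRVanLib.GG

/-!
# Double covers of the projective line and involutions of a curve
-/

set_option autoImplicit false
set_option linter.style.haveILetI false
set_option linter.unusedSectionVars false
universe u

open CategoryTheory CategoryTheory.Limits AlgebraicGeometry TopologicalSpace
open Groth.Agent

noncomputable section

namespace CurveFFLib

attribute [local instance] CurveDualLib.algFF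

variable {k : Type u} [Field k]

attribute [local instance] GenusZeroLib.isIntegral_projSpace

/-- The projective line over its base. -/
@[reducible] def overLine (k : Type u) [Field k] : (CohB1.ProjSpace 1 k).Over (Spec (CommRingCat.of k)) :=
  ⟨CohB1.ProjSpace.toSpec 1 k⟩

attribute [local instance] overLine

instance : IsProper (CohB1.ProjSpace 1 k ↘ Spec (CommRingCat.of k)) := ProjDegLib.toSpec_isProper k 1
instance : Smooth (CohB1.ProjSpace 1 k ↘ Spec (CommRingCat.of k)) := GenusZeroLib.smooth_toSpec 1 k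

theorem isFunctionField_line :
    FunFld.IsFunctionField k (CohB1.ProjSpace 1 k).functionField :=
  CurveDualLib.isFunctionField' (GenusZeroLib.dim_projSpace k 1) (S14339.finrank_h0_projSpace_one k)

theorem genus_line : FunFld.genus k (CohB1.ProjSpace 1 k).functionField = 0 := by
  rw [CurveDualLib.genus_eq' (GenusZeroLib.dim_projSpace k 1) (S14339.finrank_h0_projSpace_one k), Curv2.genus]
  haveI := GradedCechLib.subsingleton_HH_structure (n := 1) (R := k) 0
  exact Module.finrank_zero_of_subsingleton

variable [IsAlgClosed k] {X : Scheme.{u}} [X.Over (Spec (CommRingCat.of k))] [IsIntegral X]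
  [IsProper (X ↘ Spec (CommRingCat.of k))] [Smooth (X ↘ Spec (CommRingCat.of k))]
  (hdim : topologicalKrullDim X = 1)

/-- An involution fixes the generic point. -/
theorem gen_of_invol {Z : Scheme.{u}} [IsIntegral Z] {σ : Z ⟶ Z} (h : σ ≫ σ = 𝟙 Z) :
    σ (genericPoint Z) = genericPoint Z := by
  have hg : σ (genericPoint Z) ⤳ genericPoint Z := by
    have h1 : σ (σ (genericPoint Z)) = genericPoint Z := congrArg (fun φ : Z ⟶ Z => φ (genericPoint Z)) h
    have h2 : σ (genericPoint Z) ⤳ σ (σ (genericPoint Z)) :=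
      ((genericPoint_spec Z).specializes (show σ (genericPoint Z) ∈ Set.univ from trivial)).map σ.continuous
    rwa [h1] at h2
  exact (hg.antisymm ((genericPoint_spec Z).specializes trivial)).eq

include hdim in
/-- A double cover of the line gives an involution with `2g + 2` fixed points. -/
theorem exists_invol_of_double (hc : (2 : k) ≠ 0) (f : X ⟶ CohB1.ProjSpace 1 k)
    (hf : f ≫ CohB1.ProjSpace.toSpec 1 k = X ↘ Spec (CommRingCat.of k)) [IsFinite f] [Flat f]
    (hrk : f.finrank (genericPoint (CohB1.ProjSpace 1 k)) = 2) :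
    ∃ σ : X ⟶ X, σ ≫ (X ↘ Spec (CommRingCat.of k)) = X ↘ Spec (CommRingCat.of k) ∧ σ ≫ σ = 𝟙 X ∧ σ ≠ 𝟙 X ∧
      σ ≫ f = f ∧ Nat.card {x : X // IsClosed ({x} : Set X) ∧ σ x = x} = 2 * Curv2.genus k X + 2 := by
  have hP := GenusZeroLib.dim_projSpace k 1
  have h0 := RRVanLib.finrank_h0_structure (k := k) (X := X)
  obtain ⟨ψ, hψ⟩ := exists_algHom_of_hom (k := k) hf (PlaneCurveLib.gen_to_gen (k := k) hdim hP f)
  letI := ψ.toRingHom.toAlgebra
  haveI : IsScalarTower k (CohB1.ProjSpace 1 k).functionField X.functionField :=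
    IsScalarTower.of_algebraMap_eq fun c => (ψ.commutes c).symm
  have h2 : Module.finrank (CohB1.ProjSpace 1 k).functionField X.functionField = 2 :=
    (finrank_gen (k := k) hdim hP f hψ).trans hrk
  haveI : FiniteDimensional (CohB1.ProjSpace 1 k).functionField X.functionField :=
    Module.finite_of_finrank_eq_succ h2
  obtain ⟨τ, hne, hinv, hfix, -, hcard⟩ :=
    FFLib.exists_invol_card (K := (CohB1.ProjSpace 1 k).functionField) (CurveDualLib.isFunctionField' (k := k) hdim h0) h2 hc
  obtain ⟨σ, hσ, hστ⟩ := exists_hom_of_algHom (k := k) hdim (τ : X.functionField →ₐ[k] X.functionField)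
  refine ⟨σ, hσ, ?_, fun h1 => hne (AlgEquiv.ext fun z => ?_), ?_, ?_⟩
  · refine hom_ext_gen (k := k) (by rw [Category.assoc, hσ, hσ, Category.id_comp]) ?_
    rw [← Category.assoc, hστ, Category.assoc, hστ, ← Category.assoc, ← Spec.map_comp, Category.comp_id,
      ← CommRingCat.ofHom_comp]
    have : (τ : X.functionField →ₐ[k] X.functionField).toRingHom.comp
        (τ : X.functionField →ₐ[k] X.functionField).toRingHom = RingHom.id _ := RingHom.ext hinv
    rw [this, CommRingCat.ofHom_id, Spec.map_id]
    exact Category.id_comp _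
  · have h3 : Spec.map (CommRingCat.ofHom (τ : X.functionField →ₐ[k] X.functionField).toRingHom) = 𝟙 _ := by
      rw [← cancel_mono (genPt X), ← hστ, h1, Category.comp_id, Category.id_comp]
    rw [← Spec.map_id, Spec.map_inj] at h3
    exact congrArg (fun φ : X.functionField ⟶ X.functionField => φ z) h3
  · refine hom_ext_gen (k := k) (by
      show (σ ≫ f) ≫ CohB1.ProjSpace.toSpec 1 k = f ≫ CohB1.ProjSpace.toSpec 1 k
      rw [Category.assoc, hf, hσ]) ?_
    rw [← Category.assoc, hστ, Category.assoc, hψ, ← Category.assoc, ← Spec.map_comp, ← CommRingCat.ofHom_comp]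
    congr 3
    exact RingHom.ext hfix
  · rw [card_fixed (k := k) hdim hσ hστ]
    rw [genus_line, CurveDualLib.genus_eq' hdim h0] at hcard
    omega

include hdim in
/-- An involution with `2g + 2` fixed points gives a double cover of the line. -/
theorem exists_double_of_invol (hc : (2 : k) ≠ 0) (σ : X ⟶ X)
    (hσ : σ ≫ (X ↘ Spec (CommRingCat.of k)) = X ↘ Spec (CommRingCat.of k)) (hσσ : σ ≫ σ = 𝟙 X)
    (hcard : Nat.card {x : X // IsClosed ({x} : Set X) ∧ σ x = x} = 2 * Curv2.genus k X + 2) :
    ∃ f : X ⟶ CohB1.ProjSpace 1 k, f ≫ CohB1.ProjSpace.toSpec 1 k = X ↘ Spec (CommRingCat.of k) ∧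
      IsFinite f ∧ Flat f ∧ (∀ y : ↥(CohB1.ProjSpace 1 k), Scheme.Hom.finrank f y = 2) ∧
        ∃ V : X.Opens, (V : Set X).Nonempty ∧ Etale (V.ι ≫ f) := by
  have hP := GenusZeroLib.dim_projSpace k 1
  have h0 := RRVanLib.finrank_h0_structure (k := k) (X := X)
  have hFF := CurveDualLib.isFunctionField' (k := k) hdim h0
  obtain ⟨a, ha⟩ := exists_algHom_of_hom (k := k) hσ (gen_of_invol hσσ)
  have haa : ∀ z, a (a z) = z := fun z => by
    have h3 : Spec.map (CommRingCat.ofHom (a.comp a).toRingHom) = 𝟙 _ := by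
      rw [← cancel_mono (genPt X), AlgHom.toRingHom_eq_coe, AlgHom.comp_toRingHom, CommRingCat.ofHom_comp,
        Spec.map_comp, Category.assoc]
      erw [← ha, ← Category.assoc, ← ha]
      rw [Category.assoc, hσσ, Category.comp_id, Category.id_comp]
    rw [← Spec.map_id, Spec.map_inj] at h3
    exact congrArg (fun φ : X.functionField ⟶ X.functionField => φ z) h3
  let τ : X.functionField ≃ₐ[k] X.functionField :=
    AlgEquiv.ofAlgHom a a (AlgHom.ext haa) (AlgHom.ext haa)
  have hτ : genPt X ≫ σ = Spec.map (CommRingCat.ofHom (τ : X.functionField →ₐ[k] X.functionField).toRingHom) ≫ genPt X := ha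
  rw [card_fixed (k := k) hdim hσ hτ] at hcard
  have hne : τ ≠ AlgEquiv.refl := fun h => by
    have hinf : Infinite {Q : FunFld.Place k X.functionField // ∀ z, Q.1 (τ z) = Q.1 z} := by
      haveI : Infinite {x : X // IsClosed ({x} : Set X)} := (infinite_closed (k := k) hdim).to_subtype
      exact Infinite.of_injective (fun x : {x : X // IsClosed ({x} : Set X)} =>
        (⟨CurveDualLib.ptPlace (k := k) hdim x.2, fun z => by rw [h]; rfl⟩ : {Q : FunFld.Place k X.functionField // ∀ z, Q.1 (τ z) = Q.1 z}))
        fun x y hxy => Subtype.ext (CurveDualLib.ptPlace_injective (k := k) hdim x.2 y.2 (congrArg Subtype.val hxy))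
    rw [Nat.card_eq_zero_of_infinite] at hcard
    omega
  obtain ⟨L, y, v, s, hL2, hy, hv, hs, hsτ⟩ := FFLib.exists_quadratic_of_invol hc τ hne haa
  haveI : FiniteDimensional L X.functionField := Module.finite_of_finrank_eq_succ hL2
  have hLF := FFLib.isFunctionField_below (K := L) hFF
  obtain ⟨r, hr, hrcard, -⟩ := FFLib.quad_genus hLF.1 hL2 hc hy hv hLF hFF s hs
  have hgL : FunFld.genus k L = 0 := by
    have hiff : ∀ Q : FunFld.Place k X.functionField, FFLib.placeMap s Q = Q ↔ ∀ z, Q.1 (τ z) = Q.1 z := fun Q =>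
      ⟨fun h z => by rw [← hsτ]; exact congrArg (fun P : FunFld.Place k X.functionField => P.1 z) h,
        fun h => Subtype.ext (Valuation.ext fun z => by rw [FFLib.placeMap_v, hsτ]; exact h z)⟩
    rw [Nat.card_congr (Equiv.subtypeEquivRight hiff), hcard] at hrcard
    rw [CurveDualLib.genus_eq' hdim h0] at hr
    omega
  obtain ⟨eL⟩ := FFLib.exists_ratFunc_equiv hLF hgL
  obtain ⟨eP⟩ := FFLib.exists_ratFunc_equiv (isFunctionField_line (k := k)) genus_line
  let ψ : (CohB1.ProjSpace 1 k).functionField →ₐ[k] X.functionField :=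
    L.val.comp ((eP.symm.trans eL) : (CohB1.ProjSpace 1 k).functionField →ₐ[k] L)
  letI := ψ.toRingHom.toAlgebra
  have h2 : Module.finrank (CohB1.ProjSpace 1 k).functionField X.functionField = 2 := by
    refine (Algebra.finrank_eq_of_equiv_equiv (eP.symm.trans eL).toRingEquiv (RingEquiv.refl X.functionField) ?_).trans hL2
    ext z
    rfl
  haveI : FiniteDimensional (CohB1.ProjSpace 1 k).functionField X.functionField :=
    Module.finite_of_finrank_eq_succ h2
  have hc' : (2 : (CohB1.ProjSpace 1 k).functionField) ≠ 0 := by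
    rw [← map_ofNat (algebraMap k (CohB1.ProjSpace 1 k).functionField) 2]
    exact (_root_.map_ne_zero _).2 hc
  have hsep := FFLib.isSeparable_quad h2 hc'
  obtain ⟨f, hf, hfψ⟩ := exists_hom_of_algHom (k := k) hdim ψ
  change f ≫ CohB1.ProjSpace.toSpec 1 k = X ↘ Spec (CommRingCat.of k) at hf
  have hgen := gen_of_genPt hfψ
  haveI : IsProper (f ≫ CohB1.ProjSpace.toSpec 1 k) := by rw [hf]; infer_instance
  haveI : IsProper (CohB1.ProjSpace.toSpec 1 k) := ProjDegLib.toSpec_isProper k 1
  haveI : IsProper f := IsProper.of_comp f (CohB1.ProjSpace.toSpec 1 k)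
  haveI : IsNoetherian X := CurvLib.isNoetherian k
  haveI : IsNoetherian (CohB1.ProjSpace 1 k) := CurvLib.isNoetherian k
  have hclosed : ∀ x : X, x ≠ genericPoint X → IsClosed ({f x} : Set (CohB1.ProjSpace 1 k)) := fun x hx => by
    rw [← Set.image_singleton]
    exact f.isClosedMap _ (CurveDualLib.isClosed_of_ne_generic (k := k) hdim hx)
  have hfin : ∀ y, (f ⁻¹' {y}).Finite := fun y => by
    by_cases hy : IsClosed ({y} : Set (CohB1.ProjSpace 1 k))
    · have hpre : IsClosed (f ⁻¹' {y}) := hy.preimage f.continuous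
      refine (CurvLib.finite_isClosed_of_dim_le_zero hpre
        (CurvLib.topologicalKrullDim_le_zero_of_lt hdim hpre fun h => ?_)).1
      have hη : f (genericPoint X) = y := h.ge (Set.mem_univ _)
      exact GenusZeroLib.ne_genericPoint_of_isClosed hP hy (hη.symm.trans hgen)
    · refine (Set.finite_singleton (genericPoint X)).subset fun x hx => ?_
      by_contra hne
      exact hy (Set.mem_preimage.1 hx ▸ hclosed x hne)
  haveI : LocallyQuasiFinite f := LocallyQuasiFinite.of_finite_preimage_singleton f hfin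
  haveI hfinite : IsFinite f := IsFinite.of_isProper_of_locallyQuasiFinite f
  haveI hflat : Flat f := by
    refine S0220.result k X (CohB1.ProjSpace 1 k) (X ↘ Spec (CommRingCat.of k)) (CohB1.ProjSpace.toSpec 1 k) hdim hP
      (HurwitzLib.isNormalScheme_of_smooth (k := k)) f hf ?_
    obtain ⟨x, hx⟩ := (infinite_closed (k := k) hdim).nonempty
    refine ⟨f (genericPoint X), Set.mem_range_self _, f x, Set.mem_range_self _, fun h => ?_⟩
    exact GenusZeroLib.ne_genericPoint_of_isClosed hP
      (h ▸ hclosed x (GenusZeroLib.ne_genericPoint_of_isClosed hdim hx)) hgen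
  refine ⟨f, hf, hfinite, hflat, fun y => ?_, ?_⟩
  · haveI : LocallyOfFinitePresentation f := inferInstance
    rw [f.isLocallyConstant_finrank.apply_eq_of_preconnectedSpace y (genericPoint _), ← finrank_gen (k := k) hdim hP f hfψ]
    exact h2
  · refine exists_etale_of_isSeparable f hgen ?_
    rw [stalkMap_of_genPt hfψ]
    exact hsep

end CurveFFLib
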