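import Groth.Agent.CurveFFLib.DoubleLine
import Groth.Agent.FFLib.DoubleUnique
import Groth.Agent.ZetaCurveLib.Main

/-!
# Double covers of curves of genus zero by a curve of genus at least two
-/

set_option autoImplicit false
set_option linter.style.haveILetI false
set_option linter.unusedSectionVars false
universe u

open CategoryTheory CategoryTheory.Limits AlgebraicGeometry TopologicalSpace
open Groth.Agent

noncomputable section

namespace CurveFFLib

attribute [local instance] CurveDualLib.algFF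

variable {k : Type u} [Field k] {X P₁ P₂ : Scheme.{u}} [X.Over (Spec (CommRingCat.of k))] [IsIntegral X]
  [IsProper (X ↘ Spec (CommRingCat.of k))] [Smooth (X ↘ Spec (CommRingCat.of k))]
  [P₁.Over (Spec (CommRingCat.of k))] [IsIntegral P₁]
  [IsProper (P₁ ↘ Spec (CommRingCat.of k))] [Smooth (P₁ ↘ Spec (CommRingCat.of k))]
  [P₂.Over (Spec (CommRingCat.of k))] [IsIntegral P₂]
  [IsProper (P₂ ↘ Spec (CommRingCat.of k))] [Smooth (P₂ ↘ Spec (CommRingCat.of k))]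
  (hX : topologicalKrullDim X = 1) (h0 : Module.finrank k (Coh.HH X (Coh.structureModule X) 0) = 1)
  (hg : 2 ≤ Curv2.genus k X)
  (hP₁ : topologicalKrullDim P₁ = 1) (h0₁ : Module.finrank k (Coh.HH P₁ (Coh.structureModule P₁) 0) = 1)
  (hg₁ : Curv2.genus k P₁ = 0)
  (hP₂ : topologicalKrullDim P₂ = 1) (h0₂ : Module.finrank k (Coh.HH P₂ (Coh.structureModule P₂) 0) = 1)
  (hg₂ : Curv2.genus k P₂ = 0)
  (f₁ : X ⟶ P₁) [IsFinite f₁] [Flat f₁]
  (hf₁ : f₁ ≫ (P₁ ↘ Spec (CommRingCat.of k)) = X ↘ Spec (CommRingCat.of k))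
  (hr₁ : f₁.finrank (genericPoint P₁) = 2)
  (f₂ : X ⟶ P₂) [IsFinite f₂] [Flat f₂]
  (hf₂ : f₂ ≫ (P₂ ↘ Spec (CommRingCat.of k)) = X ↘ Spec (CommRingCat.of k))
  (hr₂ : f₂.finrank (genericPoint P₂) = 2)

include hX h0 hg hP₁ h0₁ hg₁ hP₂ h0₂ hg₂ hr₁ hr₂ in
/-- The function fields of the two targets have the same image. -/
theorem fieldRange_eq {ψ₁ : P₁.functionField →ₐ[k] X.functionField} {ψ₂ : P₂.functionField →ₐ[k] X.functionField}
    (h₁ : genPt X ≫ f₁ = Spec.map (CommRingCat.ofHom ψ₁.toRingHom) ≫ genPt P₁)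
    (h₂ : genPt X ≫ f₂ = Spec.map (CommRingCat.ofHom ψ₂.toRingHom) ≫ genPt P₂) :
    ψ₁.fieldRange = ψ₂.fieldRange := by
  refine FFLib.fieldRange_eq_of_double (CurveDualLib.isFunctionField' (k := k) hX h0) ?_
    (CurveDualLib.isFunctionField' (k := k) hP₁ h0₁) (CurveDualLib.isFunctionField' (k := k) hP₂ h0₂)
    ?_ ?_ ψ₁ ψ₂ ((finrank_gen (k := k) hX hP₁ f₁ h₁).trans hr₁) ((finrank_gen (k := k) hX hP₂ f₂ h₂).trans hr₂)
  · rw [CurveDualLib.genus_eq' hX h0]; exact hg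
  · rw [CurveDualLib.genus_eq' hP₁ h0₁]; exact hg₁
  · rw [CurveDualLib.genus_eq' hP₂ h0₂]; exact hg₂

include hX h0 hg hP₁ h0₁ hg₁ hP₂ h0₂ hg₂ hf₁ hr₁ hf₂ hr₂ in
/-- **The double cover of a genus zero curve is unique up to isomorphism.** -/
theorem exists_iso_of_double : ∃ e : P₁ ≅ P₂,
    e.hom ≫ (P₂ ↘ Spec (CommRingCat.of k)) = P₁ ↘ Spec (CommRingCat.of k) ∧ f₁ ≫ e.hom = f₂ := by
  have e₁ := PlaneCurveLib.gen_to_gen (k := k) hX hP₁ f₁
  have e₂ := PlaneCurveLib.gen_to_gen (k := k) hX hP₂ f₂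
  obtain ⟨ψ₁, h₁⟩ := exists_algHom_of_hom (k := k) hf₁ e₁
  obtain ⟨ψ₂, h₂⟩ := exists_algHom_of_hom (k := k) hf₂ e₂
  have heq := fieldRange_eq hX h0 hg hP₁ h0₁ hg₁ hP₂ h0₂ hg₂ f₁ hr₁ f₂ hr₂ h₁ h₂
  haveI : IsLocallyNoetherian P₁ := LocallyOfFiniteType.isLocallyNoetherian (P₁ ↘ Spec (CommRingCat.of k))
  haveI : IsLocallyNoetherian P₂ := LocallyOfFiniteType.isLocallyNoetherian (P₂ ↘ Spec (CommRingCat.of k))
  refine exists_iso_of_range_eq (P₁ ↘ Spec (CommRingCat.of k)) (P₂ ↘ Spec (CommRingCat.of k)) hP₁.le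
    (HurwitzLib.isNormalScheme_of_smooth (k := k)) hP₂.le (HurwitzLib.isNormalScheme_of_smooth (k := k))
    f₁ f₂ (hf₁.trans hf₂.symm) e₁ e₂ ?_
  rw [stalkMap_of_genPt h₁, stalkMap_of_genPt h₂]
  ext z
  exact SetLike.ext_iff.1 heq z

include hX h0 hg hP₁ h0₁ hg₁ hP₂ h0₂ hg₂ hf₁ hr₁ hf₂ hr₂ in
/-- Away from characteristic two the involutions of two double covers agree. -/
theorem invol_unique (hc : (2 : k) ≠ 0) {σ τ : X ⟶ X} (hσ : σ ≫ f₁ = f₁) (hσ1 : σ ≠ 𝟙 X)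
    (hτ : τ ≫ f₂ = f₂) (hτ1 : τ ≠ 𝟙 X) : σ = τ := by
  have hXp : ∀ {ρ : X ⟶ X} {P : Scheme.{u}} [P.Over (Spec (CommRingCat.of k))] (f : X ⟶ P),
      f ≫ (P ↘ Spec (CommRingCat.of k)) = X ↘ Spec (CommRingCat.of k) → ρ ≫ f = f →
        ρ ≫ (X ↘ Spec (CommRingCat.of k)) = X ↘ Spec (CommRingCat.of k) := fun f hf hρ => by
    rw [← hf, ← Category.assoc, hρ]
  have hgen : ∀ {ρ : X ⟶ X}, ρ ≫ f₁ = f₁ ∨ ρ ≫ f₂ = f₂ → ρ (genericPoint X) = genericPoint X := by
    intro ρ hρ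
    by_contra hne
    have hcl := CurveDualLib.isClosed_of_ne_generic (k := k) hX hne
    rcases hρ with hρ | hρ
    · have h := f₁.isClosedMap _ hcl
      rw [Set.image_singleton, show f₁ (ρ (genericPoint X)) = f₁ (genericPoint X) from
        congrArg (fun φ : X ⟶ P₁ => φ (genericPoint X)) hρ, PlaneCurveLib.gen_to_gen (k := k) hX hP₁ f₁] at h
      exact GenusZeroLib.ne_genericPoint_of_isClosed hP₁ h rfl
    · have h := f₂.isClosedMap _ hcl
      rw [Set.image_singleton, show f₂ (ρ (genericPoint X)) = f₂ (genericPoint X) from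
        congrArg (fun φ : X ⟶ P₂ => φ (genericPoint X)) hρ, PlaneCurveLib.gen_to_gen (k := k) hX hP₂ f₂] at h
      exact GenusZeroLib.ne_genericPoint_of_isClosed hP₂ h rfl
  obtain ⟨ψ₁, h₁⟩ := exists_algHom_of_hom (k := k) hf₁ (PlaneCurveLib.gen_to_gen (k := k) hX hP₁ f₁)
  obtain ⟨ψ₂, h₂⟩ := exists_algHom_of_hom (k := k) hf₂ (PlaneCurveLib.gen_to_gen (k := k) hX hP₂ f₂)
  have heq := fieldRange_eq hX h0 hg hP₁ h0₁ hg₁ hP₂ h0₂ hg₂ f₁ hr₁ f₂ hr₂ h₁ h₂
  obtain ⟨a, ha⟩ := exists_algHom_of_hom (k := k) (hXp f₁ hf₁ hσ) (hgen (Or.inl hσ))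
  obtain ⟨b, hb⟩ := exists_algHom_of_hom (k := k) (hXp f₂ hf₂ hτ) (hgen (Or.inr hτ))
  have hfix : ∀ {ρ : X ⟶ X} {c : X.functionField →ₐ[k] X.functionField} {P : Scheme.{u}}
      [P.Over (Spec (CommRingCat.of k))] [IsIntegral P] {f : X ⟶ P} {ψ : P.functionField →ₐ[k] X.functionField},
      genPt X ≫ ρ = Spec.map (CommRingCat.ofHom c.toRingHom) ≫ genPt X →
      genPt X ≫ f = Spec.map (CommRingCat.ofHom ψ.toRingHom) ≫ genPt P → ρ ≫ f = f → ∀ z, c (ψ z) = ψ z := by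
    intro ρ c P _ _ f ψ hρc hfψ hρ z
    have h3 : Spec.map (CommRingCat.ofHom ψ.toRingHom ≫ CommRingCat.ofHom c.toRingHom) =
        Spec.map (CommRingCat.ofHom ψ.toRingHom) := by
      rw [← cancel_mono (genPt P), Spec.map_comp, Category.assoc, ← hfψ, ← Category.assoc, ← hρc,
        Category.assoc, hρ]
    rw [Spec.map_inj] at h3
    exact congrArg (fun φ : P.functionField ⟶ X.functionField => φ z) h3
  have hne : ∀ {ρ : X ⟶ X} {c : X.functionField →ₐ[k] X.functionField},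
      ρ ≫ (X ↘ Spec (CommRingCat.of k)) = X ↘ Spec (CommRingCat.of k) →
      genPt X ≫ ρ = Spec.map (CommRingCat.ofHom c.toRingHom) ≫ genPt X → ρ ≠ 𝟙 X → c ≠ AlgHom.id k _ := by
    intro ρ c hρ hρc hρ1 hc
    refine hρ1 (hom_ext_gen (k := k) (hρ.trans (Category.id_comp _).symm) ?_)
    rw [hρc, hc, Category.comp_id]
    exact (congrArg (· ≫ genPt X) (Spec.map_id _)).trans (Category.id_comp _)
  letI := ψ₁.toRingHom.toAlgebra
  haveI : IsScalarTower k P₁.functionField X.functionField :=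
    IsScalarTower.of_algebraMap_eq fun c => (ψ₁.commutes c).symm
  have h2 : Module.finrank P₁.functionField X.functionField = 2 := (finrank_gen (k := k) hX hP₁ f₁ h₁).trans hr₁
  haveI : FiniteDimensional P₁.functionField X.functionField := Module.finite_of_finrank_eq_succ h2
  have hc' : (2 : P₁.functionField) ≠ 0 := by
    rw [← map_ofNat (algebraMap k P₁.functionField) 2]; exact (_root_.map_ne_zero _).2 hc
  obtain ⟨y, v, hy, hv⟩ := FFLib.exists_sqrt h2 hc'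
  have hspan := (FFLib.minpoly_quad h2 hy (a := (0 : P₁.functionField)) (g := v)
    (by rw [map_zero, zero_mul, add_zero, hv])).2.1
  have hkey : ∀ c : X.functionField →ₐ[k] X.functionField, c ≠ AlgHom.id k _ →
      (∀ z, c (ψ₁ z) = ψ₁ z) → c y = -y := by
    intro c hc1 hcfix
    have h : (c y) ^ 2 = y ^ 2 := by rw [← map_pow, hv]; exact hcfix v
    refine (sq_eq_sq_iff_eq_or_eq_neg.1 h).resolve_left fun h' => hc1 (AlgHom.ext fun z => ?_)
    obtain ⟨p, q, rfl⟩ := hspan z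
    show c _ = _
    rw [map_add, map_mul, h']
    exact congrArg₂ (fun s t => s + t * y) (hcfix p) (hcfix q)
  have hbfix : ∀ z, b (ψ₁ z) = ψ₁ z := fun z => by
    obtain ⟨w, hw⟩ : ψ₁ z ∈ ψ₂.fieldRange := heq ▸ ⟨z, rfl⟩
    rw [← hw]
    exact hfix hb h₂ hτ w
  have hafix := hfix ha h₁ hσ
  have hab : a = b := AlgHom.ext fun z => by
    obtain ⟨p, q, rfl⟩ := hspan z
    rw [map_add, map_add, map_mul, map_mul, hkey a (hne (hXp f₁ hf₁ hσ) ha hσ1) hafix,
      hkey b (hne (hXp f₂ hf₂ hτ) hb hτ1) hbfix]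
    exact congrArg₂ (fun s t => s + t * -y) ((hafix p).trans (hbfix p).symm) ((hafix q).trans (hbfix q).symm)
  exact hom_ext_gen (k := k) ((hXp f₁ hf₁ hσ).trans (hXp f₂ hf₂ hτ).symm) (by rw [ha, hb, hab])

omit [IsIntegral X] in
include hX in
/-- A geometrically connected smooth proper curve has only constant global functions. -/
theorem h0_of_geomConnected [IsIntegral X] [GeometricallyConnected (X ↘ Spec (CommRingCat.of k))] :
    Module.finrank k (Coh.HH X (Coh.structureModule X) 0) = 1 := by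
  haveI := FibVALib.geometricallyIntegral_of_geometricallyConnected (X ↘ Spec (CommRingCat.of k))
  exact FibVALib.finrank_h0_structure k X hX

end CurveFFLib
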