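import Groth.Agent.GeomRedFieldLib.Scheme
import Groth.Agent.FibDimLib.Smooth
import Groth.Agent.FibDimLib.Comps
import Groth.Agent.CurveFFLib.TwistFF
import Mathlib.RingTheory.RingHom.LocallyStandardSmooth
import Mathlib.RingTheory.Etale.Kaehler
import Mathlib.RingTheory.Kaehler.Polynomial

/-!
# Differentials of the function field of a geometrically reduced variety
-/

set_option autoImplicit false
set_option linter.style.haveILetI false
universe u

open CategoryTheory CategoryTheory.Limits AlgebraicGeometry TopologicalSpace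

noncomputable section

namespace CurveFFLib

variable {k : Type u} [Field k] {X : Scheme.{u}} [X.Over (Spec (CommRingCat.of k))] [IsIntegral X]

/-- The differentials of the function field of a geometrically reduced variety have a basis of exact
differentials with as many elements as the dimension. -/
theorem exists_basis_D [LocallyOfFiniteType (X ↘ Spec (CommRingCat.of k))]
    [GeometricallyReduced (X ↘ Spec (CommRingCat.of k))] (d : ℕ) (hd : topologicalKrullDim X = d) :
    letI : Algebra k X.functionField := Curv2.stalkAlgebra k X (genericPoint X)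
    ∃ (x : ULift.{u} (Fin d) → X.functionField)
      (b : Module.Basis (ULift.{u} (Fin d)) X.functionField (Ω[X.functionField⁄k])),
      ∀ i, b i = KaehlerDifferential.D k X.functionField (x i) := by
  classical
  letI algK : Algebra k X.functionField := Curv2.stalkAlgebra k X (genericPoint X)
  let q := X ↘ Spec (CommRingCat.of k)
  haveI : LocallyOfFinitePresentation q := inferInstance
  obtain ⟨w, hw⟩ := (GeomRedFieldLib.dense_smoothLocus_of_gr q).nonempty
  have hηsm : genericPoint X ∈ q.smoothLocus :=
    ((genericPoint_spec X).mem_open_set_iff q.smoothLocus.2).mpr ⟨w, trivial, hw⟩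
  obtain ⟨U, hU, V₀, hV₀, hVU₀, hξ₀, hsm⟩ := exists_smooth_of_formallySmooth_stalk q (genericPoint X) hηsm
  obtain rfl : U = ⊤ := eq_top_iff.mpr fun z _ => (Subsingleton.elim (α := PrimeSpectrum k) z (q (genericPoint X))) ▸ hVU₀ hξ₀
  haveI : Nonempty V₀ := ⟨⟨_, hξ₀⟩⟩
  obtain ⟨S, hS, hSt⟩ := hsm.locally_isStandardSmooth
  obtain ⟨g, hg, hg0⟩ : ∃ g ∈ S, g ≠ 0 := by
    by_contra h
    push Not at h
    exact one_ne_zero (α := Γ(X, V₀)) (Ideal.mem_bot.mp ((Ideal.span_eq_bot.mpr h ▸ hS.symm : (⊤ : Ideal Γ(X, V₀)) = ⊥) ▸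
      (Submodule.mem_top : (1 : Γ(X, V₀)) ∈ (⊤ : Ideal Γ(X, V₀)))))
  let V := X.basicOpen g
  have hV : IsAffineOpen V := hV₀.basicOpen g
  have hξ : genericPoint X ∈ V := (Scheme.mem_basicOpen X g _ hξ₀).mpr
    (isUnit_iff_ne_zero.mpr ((map_ne_zero_iff _ (germ_injective_of_isIntegral X _ hξ₀)).mpr hg0))
  have hVU : V ≤ q ⁻¹ᵁ ⊤ := fun _ _ => trivial
  have hstd : (q.appLE ⊤ V hVU).hom.IsStandardSmooth := by
    letI := (q.appLE ⊤ V₀ hVU₀).hom.toAlgebra
    haveI := hV₀.isLocalization_basicOpen g
    have h := RingHom.isStandardSmooth_respectsIso.1 _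
      (IsLocalization.algEquiv (Submonoid.powers g) (Localization.Away g) Γ(X, V)).toRingEquiv (hSt g hg)
    refine (?_ : _ = (q.appLE ⊤ V hVU).hom) ▸ h
    ext c
    exact (IsLocalization.algEquiv (Submonoid.powers g) (Localization.Away g) Γ(X, V)).commutes
      (q.appLE ⊤ V₀ hVU₀ c) |>.trans (congr($(Scheme.Hom.appLE_map q hVU₀ (homOfLE (X.basicOpen_le g)).op) c))
  obtain ⟨n, g₀, hg₀, hget₀⟩ := hstd.exists_etale_mvPolynomial
  obtain rfl : n = d := by
    have h1 := FibDimLib.fibreDimAt_chart q hU hV hVU g₀ hg₀ hget₀ (genericPoint X) hξ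
    have hr : Set.range (q.fiberι (q (genericPoint X))) = Set.univ := by
      rw [Scheme.Hom.range_fiberι]
      exact Set.eq_univ_of_forall fun y => Subsingleton.elim (α := PrimeSpectrum k) _ _
    let ε : ↥(q.fiber (q (genericPoint X))) ≃ₜ X := (q.fiberι _).isEmbedding.toHomeomorph.trans
      ((Homeomorph.setCongr hr).trans (Homeomorph.Set.univ X))
    haveI : IrreducibleSpace ↥(q.fiber (q (genericPoint X))) := by
      rw [irreducibleSpace_def]
      have h := (IrreducibleSpace.isIrreducible_univ X).image ε.symm ε.symm.continuous.continuousOn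
      rwa [Set.image_univ, ε.symm.surjective.range_eq] at h
    have h2 : FlatMor.fibreDimAt q (genericPoint X) = topologicalKrullDim X := by
      rw [FlatMor.fibreDimAt]
      let q' : q.fiber (q (genericPoint X)) ⟶
          Spec (CommRingCat.of ↥((Spec (CommRingCat.of k)).residueField (q (genericPoint X)))) :=
        q.fiberToSpecResidueField _
      haveI : LocallyOfFiniteType q' := MorphismProperty.pullback_snd _ _ (inferInstance : LocallyOfFiniteType q)
      exact (FibDimLib.localDim_of_irreducible q' _).trans (IsHomeomorph.topologicalKrullDim_eq _ ε.isHomeomorph)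
    rw [h1, hd] at h2
    exact_mod_cast h2
  letI algkV : Algebra k Γ(X, V) :=
    ((q.appLE ⊤ V hVU).hom.comp (Scheme.ΓSpecIso (CommRingCat.of k)).inv.hom).toAlgebra
  let σ := (Scheme.ΓSpecIso (CommRingCat.of k)).commRingCatIsoToRingEquiv
  let gk : MvPolynomial (Fin n) k →+* Γ(X, V) := g₀.comp (MvPolynomial.mapEquiv _ σ.symm).toRingHom
  have hget : gk.Etale := RingHom.Etale.respectsIso.2 g₀ (MvPolynomial.mapEquiv _ σ.symm) hget₀
  let R := MvPolynomial (Fin n) k
  letI algRV : Algebra R Γ(X, V) := gk.toAlgebra
  haveI : IsScalarTower k R Γ(X, V) := IsScalarTower.of_algebraMap_eq fun c => by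
    change _ = g₀ (MvPolynomial.mapEquiv _ σ.symm (MvPolynomial.C c))
    rw [MvPolynomial.mapEquiv_apply, MvPolynomial.map_C]
    exact (RingHom.congr_fun hg₀ _).symm
  haveI : Algebra.Etale R Γ(X, V) := hget
  haveI : Nonempty V := ⟨⟨_, hξ⟩⟩
  haveI : IsFractionRing Γ(X, V) X.functionField := functionField_isFractionRing_of_isAffineOpen X V hV
  haveI : IsScalarTower k Γ(X, V) X.functionField := IsScalarTower.of_algebraMap_eq fun c => by
    change X.presheaf.germ ⊤ (genericPoint X) trivial _ = X.presheaf.germ V (genericPoint X) hξ (q.appLE ⊤ V hVU _)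
    rw [Scheme.Hom.appLE, CommRingCat.comp_apply, TopCat.Presheaf.germ_res_apply]
    rfl
  letI algRK : Algebra R X.functionField :=
    ((algebraMap Γ(X, V) X.functionField).comp (algebraMap R Γ(X, V))).toAlgebra
  haveI : IsScalarTower R Γ(X, V) X.functionField := IsScalarTower.of_algebraMap_eq fun _ => rfl
  haveI : IsScalarTower k R X.functionField := IsScalarTower.of_algebraMap_eq fun c => by
    rw [IsScalarTower.algebraMap_apply k Γ(X, V) X.functionField,
      IsScalarTower.algebraMap_apply k R Γ(X, V)]
    rfl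
  haveI : Algebra.FormallyEtale Γ(X, V) X.functionField :=
    Algebra.FormallyEtale.of_isLocalization (nonZeroDivisors Γ(X, V))
  haveI : Algebra.FormallyEtale R X.functionField := Algebra.FormallyEtale.comp R Γ(X, V) _
  let b := (((KaehlerDifferential.mvPolynomialBasis k (Fin n)).baseChange X.functionField).map
    (KaehlerDifferential.tensorKaehlerEquivOfFormallyEtale k R X.functionField)).reindex Equiv.ulift.{u}.symm
  refine ⟨fun i => algebraMap R X.functionField (MvPolynomial.X i.down), b, fun i => ?_⟩
  have hb : KaehlerDifferential.mvPolynomialBasis k (Fin n) i.down = KaehlerDifferential.D k R (MvPolynomial.X i.down) := by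
    apply (KaehlerDifferential.mvPolynomialBasis k (Fin n)).repr.injective
    rw [Module.Basis.repr_self, KaehlerDifferential.mvPolynomialBasis_repr_D_X]
  simp only [b, Module.Basis.reindex_apply, Module.Basis.map_apply, Module.Basis.baseChange_apply,
    Equiv.symm_symm, Equiv.ulift_apply, hb, KaehlerDifferential.tensorKaehlerEquivOfFormallyEtale_apply,
    one_smul]
  exact (KaehlerDifferential.mapBaseChange_tmul k R X.functionField _ _).trans
    ((one_smul _ _).trans (KaehlerDifferential.map_D k k R X.functionField _))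

end CurveFFLib
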