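import Groth.Agent.CurveDualLib.DualField
import Groth.Agent.ZetaCurveLib.Pic
import Groth.Agent.FFLib.DoubleUnique
import Groth.Agent.S7640
import Groth.Agent.VBP1Lib.Twist
import Groth.Agent.GenusZeroLib.Zeros
import Groth.Agent.CurveBCLib.Twist
import Groth.Agent.TwistLib.ProjSymExt
import Groth.Agent.Genus2Lib.Basic
import Groth.Agent.PlaneCurveLib.Cover

/-!
# Powers of a pencil of degree two
-/

set_option autoImplicit false
set_option linter.style.haveILetI false
set_option linter.unusedSectionVars false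
universe u

open CategoryTheory CategoryTheory.Limits AlgebraicGeometry TopologicalSpace
open WithZero Module
open Groth.Agent

noncomputable section

namespace CurveFFLib

open FunFld in
/-- Multiples of a degree two pencil. -/
theorem ell_nsmul_pencil {k K : Type*} [Field k] [Field K] [Algebra k K] (hK : IsFunctionField k K)
    (hg : 2 ≤ genus k K) {D : Divisor k K} (hd : D.deg = 2) (hl : 2 ≤ ell D) {r : ℕ} (hr : r + 1 ≤ genus k K) :
    ell (r • D) = r + 1 := by
  classical
  obtain ⟨z, hz, hpos⟩ := FFLib.exists_effective_of_ell_pos hK (D := D) (by omega)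
  set A := D + FunFld.div k z with hA
  have hAd : A.deg = 2 := by rw [hA, FFLib.deg_add, FFLib.deg_div hK, hd, add_zero]
  have hAl : 2 ≤ ell A := by rw [hA, FFLib.ell_add_div hK _ hz]; exact hl
  have hsame : ∀ n : ℕ, ell (n • D) = ell (n • A) := fun n => by
    rw [hA, smul_add, show n • FunFld.div k z = FunFld.div k (z ^ n) from ?_, FFLib.ell_add_div hK _ (pow_ne_zero n hz)]
    ext P
    simp [FFLib.div_apply hK.1, FFLib.ord_pow]
  rw [hsame]
  obtain ⟨x, hxA, hx⟩ : ∃ x ∈ L A, x ∉ Set.range (algebraMap k K) := by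
    by_contra hh
    push Not at hh
    haveI := FFLib.finiteDimensional_L hK (0 : Divisor k K)
    have h1 := Submodule.finrank_mono (show L A ≤ L (0 : Divisor k K) from fun y hy => by
      rw [FFLib.L_zero hK, Submodule.mem_one]
      exact hh y hy)
    have h2 : ell (0 : Divisor k K) = 1 := FFLib.ell_zero hK
    unfold ell at hAl h2
    omega
  have hx0 : x ≠ 0 := fun e => hx ⟨0, by rw [map_zero, e]⟩
  have htr := FFLib.transcendental_of_notMem hK hx
  haveI := FFLib.finite_adjoin hK.1 htr
  have hle : FFLib.pole x ≤ A := fun Q => by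
    rw [FFLib.pole_apply hK.1]
    refine max_le ?_ (hpos Q)
    have := (FFLib.mem_L_iff hx0).1 hxA Q
    omega
  have hdeg := FFLib.deg_pole hK htr
  have h2 := FFLib.deg_mono hle
  rw [hdeg, hAd] at h2
  have hne1 : finrank (IntermediateField.adjoin k ({x} : Set K)) K ≠ 1 := fun h => by
    have := FFLib.genus_eq_zero_of_top hK (IntermediateField.finrank_eq_one_iff_eq_top.1 h)
    omega
  have hpp : 0 < finrank (IntermediateField.adjoin k ({x} : Set K)) K := finrank_pos
  have hpole : FFLib.pole x = A := by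
    have h' : (finrank (IntermediateField.adjoin k ({x} : Set K)) K : ℤ) ≤ 2 := h2
    have := FFLib.eq_zero_of_deg_eq_zero hK (sub_nonneg.2 hle) (by rw [FFLib.deg_sub, hdeg, hAd]; omega)
    exact (sub_eq_zero.1 this).symm
  have hstep : ∀ n : ℕ, ell (n • A) + 1 ≤ ell ((n + 1) • A) := by
    intro n
    have hsub : L (n • A) ≤ L ((n + 1) • A) := FFLib.L_mono (by
      rw [succ_nsmul]; exact le_add_of_nonneg_right hpos)
    haveI := FFLib.finiteDimensional_L hK ((n + 1) • A)
    refine Submodule.finrank_lt_finrank_of_lt (lt_of_le_not_ge hsub fun h => ?_)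
    obtain ⟨P, hP⟩ := FFLib.exists_pole hK hx
    have hxn : x ^ (n + 1) ∈ L ((n + 1) • A) := fun Q => by
      rw [map_pow, Finsupp.smul_apply]
      refine (pow_le_pow_left' (hxA Q) (n + 1)).trans ?_
      rw [← exp_nsmul]
    have h3 := (FFLib.mem_L_iff (pow_ne_zero _ hx0)).1 (h hxn) P
    rw [← hpole, Finsupp.smul_apply, FFLib.pole_apply hK.1, max_eq_left (by omega : 0 ≤ -P.ord x),
      FFLib.ord_pow, nsmul_eq_mul] at h3
    push_cast at h3
    nlinarith
  have htop : ell ((genus k K - 1) • A) ≤ genus k K := by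
    obtain ⟨C, hC⟩ := FFLib.exists_canonical hK
    have hrr := FFLib.riemann_roch hK hC ((genus k K - 1) • A)
    rw [FFLib.deg_nsmul, hAd] at hrr
    have hb : ell (C - (genus k K - 1) • A) ≤ 1 := by
      by_contra hh
      obtain ⟨w, hw, hwp⟩ := FFLib.exists_effective_of_ell_pos hK (D := C - (genus k K - 1) • A) (by omega)
      have hd0 := FFLib.eq_zero_of_deg_eq_zero hK hwp (by
        rw [FFLib.deg_add, FFLib.deg_div hK, FFLib.deg_sub, FFLib.deg_nsmul, hAd,
          (FFLib.canonical_ell_deg hK hC).2]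
        push_cast [Nat.cast_sub (show 1 ≤ genus k K by omega)]
        ring)
      have := FFLib.ell_add_div hK (C - (genus k K - 1) • A) hw
      rw [hd0, FFLib.ell_zero hK] at this
      omega
    push_cast [Nat.cast_sub (show 1 ≤ genus k K by omega)] at hrr
    omega
  have hlow : ∀ n : ℕ, n + 1 ≤ ell (n • A) := by
    intro n
    induction n with
    | zero => rw [zero_smul, FFLib.ell_zero hK]
    | succ n ih => exact le_trans (by omega) (hstep n)
  have hhigh : ∀ j n : ℕ, n + j = genus k K - 1 → ell (n • A) ≤ n + 1 := by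
    intro j
    induction j with
    | zero => intro n hn; obtain rfl : n = genus k K - 1 := (Nat.add_zero n ▸ hn); omega
    | succ j ih =>
      intro n hn
      have := ih (n + 1) (by omega)
      have := hstep n
      omega
  exact le_antisymm (hhigh (genus k K - 1 - r) r (by omega)) (hlow r)

variable {k : Type u} [Field k] {X : Scheme.{u}} [X.Over (Spec (CommRingCat.of k))] [IsIntegral X]
  [IsProper (X ↘ Spec (CommRingCat.of k))] [Smooth (X ↘ Spec (CommRingCat.of k))]
  (hdim : topologicalKrullDim X = 1) (h0 : Module.finrank k (Coh.HH X (Coh.structureModule X) 0) = 1)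

attribute [local instance] CurveDualLib.algFF

include hdim h0 in
/-- Sections and degrees of the powers of a module of degree two with two sections. -/
theorem powers_of_pencil (hg : 2 ≤ Curv2.genus k X) {L : X.Modules} (hL : PicF.IsInvertible L)
    (hd : Curv2.deg k X L 1 = 2) (hl : 2 ≤ Module.finrank k (Coh.HH X L 0)) {r : ℕ} (hr : r + 1 ≤ Curv2.genus k X) :
    PicF.IsInvertible (CohB1.tensorPow L r) ∧ Curv2.deg k X (CohB1.tensorPow L r) 1 = 2 * r ∧
      Module.finrank k (Coh.HH X (CohB1.tensorPow L r) 0) = r + 1 := by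
  obtain ⟨D, hD⟩ := ZetaCurveLib.exists_hasDiv (k := k) hdim hL
  have hgenO : ∀ x : X, CurveDualLib.IsGen (Coh.structureModule X) x
      (DevissLib.gm (Coh.structureModule X) x (show x ∈ (⊤ : X.Opens) from trivial) (1 : Γ(X, ⊤))) := fun x =>
    (AmpleLib.one_genOn (X := X) ⊤).genAt trivial
  have hO : ZetaCurveLib.HasDiv (k := k) hdim (Coh.structureModule X) 0 :=
    ⟨CurvLib.isInvertible_structureModule, _, hgenO _, fun x hx => ⟨_, hgenO x, 1, one_ne_zero, by
      rw [CurveDualLib.sp_gm]; exact (one_smul _ _).symm, by simp [FunFld.Place.ord]⟩⟩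
  have hpow : ∀ n : ℕ, ZetaCurveLib.HasDiv (k := k) hdim (CohB1.tensorPow L n) (n • D) := by
    intro n
    induction n with
    | zero => rw [zero_smul]; exact hO
    | succ n ih => rw [succ_nsmul]; exact ih.tensor hdim hD
  have hK := CurveDualLib.isFunctionField' (k := k) hdim h0
  have hgen := CurveDualLib.genus_eq' (k := k) hdim h0
  have hell : ∀ {M : X.Modules} {E : FunFld.Divisor k X.functionField}, ZetaCurveLib.HasDiv (k := k) hdim M E →
      Module.finrank k (Coh.HH X M 0) = FunFld.ell E := fun ⟨hM, σ, hσ, hE⟩ =>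
    CurveDualLib.finrank_h0_eq_ell hdim hM hσ hE
  refine ⟨(hpow r).1, ?_, ?_⟩
  · rw [(hpow r).deg hdim h0, FFLib.deg_nsmul, ← hD.deg hdim h0, hd]
    ring
  · rw [hell (hpow r)]
    exact ell_nsmul_pencil hK (hgen.symm ▸ hg) ((hD.deg hdim h0).symm.trans hd) (hell hD ▸ hl) (hgen.symm ▸ hr)

include hdim in
/-- The pullback of `O(1)` along a double cover of the line is a pencil of degree two. -/
theorem pencil_of_double (f : X ⟶ CohB1.ProjSpace 1 k)
    (hf : f ≫ CohB1.ProjSpace.toSpec 1 k = X ↘ Spec (CommRingCat.of k)) [IsFinite f]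
    (hres : f.residueDegree (genericPoint X) = 2) :
    PicF.IsInvertible ((Scheme.Modules.pullback f).obj (Twist.twistProjSpace 1 k 1)) ∧
      Curv2.deg k X ((Scheme.Modules.pullback f).obj (Twist.twistProjSpace 1 k 1)) 1 = 2 ∧
      2 ≤ Module.finrank k (Coh.HH X ((Scheme.Modules.pullback f).obj (Twist.twistProjSpace 1 k 1)) 0) := by
  letI : (CohB1.ProjSpace 1 k).Over (Spec (CommRingCat.of k)) := ⟨CohB1.ProjSpace.toSpec 1 k⟩
  haveI : IsIntegral (CohB1.ProjSpace 1 k) := VBP1Lib.isIntegral_line k
  haveI : IsProper (CohB1.ProjSpace 1 k ↘ Spec (CommRingCat.of k)) := VBP1Lib.isProper_over k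
  haveI : Smooth (CohB1.ProjSpace 1 k ↘ Spec (CommRingCat.of k)) := GenusZeroLib.smooth_toSpec 1 k
  have hO1 := VBP1Lib.twist_inv k 1
  have hpb := AmpleDevLib.isInvertible_pb f hO1
  have hgen := PlaneCurveLib.gen_to_gen (k := k) hdim (VBP1Lib.dim_line k) f
  refine ⟨hpb, ?_, ?_⟩
  · have h := Groth.Agent.S7640.result k X (CohB1.ProjSpace 1 k) hdim (VBP1Lib.dim_line k) f hf hgen 1
      (Twist.twistProjSpace 1 k 1) (CurvLib.locFree_of_isInvertible hO1)
    rw [hres, VBP1Lib.deg_twist] at h
    exact h.trans (by norm_num)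
  haveI := CurvLib.isNoetherian k (X := X)
  haveI := CurvLib.finite_HH (k := k) (CurvLib.isCoh_of_isInvertible hpb) 0
  letI := GenusZeroLib.kmod k (Twist.twistProjSpace 1 k 1)
  letI := GenusZeroLib.kmod k ((Scheme.Modules.pullback f).obj (Twist.twistProjSpace 1 k 1))
  have hρ : ∀ c : k, f.appTop (GenusZeroLib.ρ k (X := CohB1.ProjSpace 1 k) c) = GenusZeroLib.ρ k (X := X) c :=
    fun c => by
      show ((CohB1.ProjSpace.toSpec 1 k).appTop ≫ f.appTop) _ = _
      rw [← Scheme.Hom.comp_appTop, hf]
      rfl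
  let φ : Γ(Twist.twistProjSpace 1 k 1, ⊤) →ₗ[k] Γ((Scheme.Modules.pullback f).obj (Twist.twistProjSpace 1 k 1), ⊤) :=
    { toFun := fun s => KFlatLib.puSec f s
      map_add' := fun a b => map_add (((Scheme.Modules.pullbackPushforwardAdjunction f).unit.app _).app ⊤).hom a b
      map_smul' := fun c s => (TwistLib.puSec_smul f _ s).trans
        (congrArg (fun z : Γ(X, ⊤) => z • (show Γ((Scheme.Modules.pullback f).obj (Twist.twistProjSpace 1 k 1), ⊤) from
          KFlatLib.puSec f s)) (hρ c)) }
  have hinj : Function.Injective φ := by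
    rw [injective_iff_map_eq_zero]
    intro s hs
    by_contra hs0
    have h1 : AmpleLib.GenAt (Twist.twistProjSpace 1 k 1) s (show f (genericPoint X) ∈ (⊤ : (CohB1.ProjSpace 1 k).Opens) from trivial) := by
      have := GenusZeroLib.genericPoint_mem_genSet hO1 hs0
      rw [← hgen] at this
      exact this
    exact CurveBCLib.genAt_ne_zero (TwistLib.GenAt.puSec f h1) hs
  haveI : Module.Finite k Γ((Scheme.Modules.pullback f).obj (Twist.twistProjSpace 1 k 1), ⊤) :=
    Module.Finite.equiv (GenusZeroLib.e0k k _)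
  have hle := LinearMap.finrank_le_finrank_of_injective hinj
  rw [← (GenusZeroLib.e0k k (Twist.twistProjSpace 1 k 1)).finrank_eq,
    ← (GenusZeroLib.e0k k ((Scheme.Modules.pullback f).obj (Twist.twistProjSpace 1 k 1))).finrank_eq] at hle
  have h2 := VBP1Lib.finrank_h0_twist k 1
  exact le_trans (by rw [h2]; rfl) hle

include k hdim in
/-- The degree of a finite flat map to a curve is the residue degree at the generic point. -/
theorem residueDegree_eq_finrank {Y : Scheme.{u}} [Y.Over (Spec (CommRingCat.of k))] [IsIntegral Y]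
    [IsProper (Y ↘ Spec (CommRingCat.of k))] [Smooth (Y ↘ Spec (CommRingCat.of k))]
    (hdimY : topologicalKrullDim Y = 1) (r : X ⟶ Y) [IsFinite r] [Flat r] :
    r.residueDegree (genericPoint X) = r.finrank (genericPoint Y) := by
  haveI := CurvLib.isNoetherian k (X := X)
  haveI := CurvLib.isNoetherian k (X := Y)
  have hgen := PlaneCurveLib.gen_to_gen (k := k) hdim hdimY r
  have hfib : ∀ z, r z = r (genericPoint X) → z = genericPoint X := fun z hz => by
    by_contra hne
    have h1 := r.isClosedMap _ (CurveDualLib.isClosed_of_ne_generic (k := k) hdim hne)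
    rw [Set.image_singleton, hz, hgen] at h1
    exact GenusZeroLib.ne_genericPoint_of_isClosed hdimY h1 rfl
  rw [← AVAmpleLib.genRank_push_structure r, CurvLib.genRank]
  exact (DegPullLib.finrank_stalk_push r r.isClosedMap CurvLib.isInvertible_structureModule hfib _ hgen rfl).symm

end CurveFFLib

end
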