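import Groth.Agent.CurveFFLib.TwistGenus
import Groth.Agent.CurveH0Lib.DegBound
import Groth.Agent.ZetaCurveLib.Pic
import Groth.Agent.ZetaCurveLib.Bridge
import Groth.Agent.FFLib.Ext
import Groth.Agent.FFLib.RR
import Mathlib.RingTheory.Unramified.Field
import Mathlib.RingTheory.Etale.Kaehler

/-!
# Separable closed points of small degree
-/

set_option autoImplicit false
set_option linter.style.haveILetI false
set_option linter.unusedSectionVars false
universe u

open CategoryTheory CategoryTheory.Limits AlgebraicGeometry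
open FunFld

noncomputable section

namespace CurveFFLib

section FF

variable {k K K' : Type*} [Field k] [Field K] [Field K'] [Algebra k K] [Algebra K K'] [Algebra k K']
  [IsScalarTower k K K'] [FiniteDimensional K K']

open Groth.Agent.FFLib in
/-- Functions of bounded poles from a subfield have small poles there. -/
theorem exists_divisor_below (hK : IsFunctionField k K) {D : Divisor k K'} (hD : 0 ≤ D) {ι : Type*}
    (s : Finset ι) (a : ι → K) (ha : ∀ i ∈ s, algebraMap K K' (a i) ∈ L D) :
    ∃ E : Divisor k K, 0 ≤ E ∧ (∀ i ∈ s, a i ∈ L E) ∧ conorm K' E ≤ D := by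
  classical
  induction s using Finset.induction_on with
  | empty => exact ⟨0, le_rfl, by simp, fun Q => by rw [conorm_apply hK.1]; simpa using hD Q⟩
  | @insert i t _ ih =>
    obtain ⟨E, hE0, hE, hEc⟩ := ih fun j hj => ha j (Finset.mem_insert_of_mem hj)
    refine ⟨E ⊔ pole (a i), hE0.trans le_sup_left, fun j hj => ?_, fun Q => ?_⟩
    · rcases Finset.mem_insert.1 hj with rfl | hj
      · exact L_mono le_sup_right (mem_L_pole hK.1 _)
      · exact L_mono le_sup_left (hE j hj)
    · have h1 := hEc Q
      rw [conorm_apply hK.1] at h1 ⊢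
      rw [Finsupp.sup_apply, pole_apply hK.1]
      have h2 : (max (-(underPlace hK.1 Q).ord (a i)) 0) * underIdx hK.1 Q ≤ D Q := by
        rcases eq_or_ne (a i) 0 with h | h
        · simpa [h, Place.ord] using hD Q
        have hi := (mem_L_iff ((map_ne_zero (algebraMap K K')).2 h)).1 (ha i (Finset.mem_insert_self _ _)) Q
        rw [ord_algebraMap hK.1] at hi
        have h0 : (0 : ℤ) ≤ D Q := hD Q
        rcases le_total (-(underPlace hK.1 Q).ord (a i)) 0 with h' | h'
        · rw [max_eq_right h', zero_mul]; exact h0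
        · rw [max_eq_left h']; nlinarith
      rcases le_total (E (underPlace hK.1 Q)) (max (-(underPlace hK.1 Q).ord (a i)) 0) with h' | h'
      · rw [sup_eq_right.2 h']; exact h2
      · rw [sup_eq_left.2 h']; exact h1

end FF

variable {k : Type u} [Field k] {X : Scheme.{u}} [X.Over (Spec (CommRingCat.of k))] [IsIntegral X]
  [IsProper (X ↘ Spec (CommRingCat.of k))] [Smooth (X ↘ Spec (CommRingCat.of k))]
  (hdim : topologicalKrullDim X = 1)
  (h0 : Module.finrank k (Coh.HH X (Coh.structureModule X) 0) = 1)

attribute [local instance] CurveDualLib.algFF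
attribute [local instance] Curv2.resAlgebra

include hdim h0 in
/-- In genus at least two some function with poles bounded by an effective canonical divisor is separating. -/
theorem exists_differential_ne_zero (p : ℕ) [Fact p.Prime] [ExpChar k p] (hg : 2 ≤ Curv2.genus k X)
    {D : Divisor k X.functionField} (hD : 0 ≤ D) (hdeg : D.deg = 2 * (Curv2.genus k X : ℤ) - 2)
    (hl : Curv2.genus k X ≤ ell D) :
    ∃ f ∈ L D, KaehlerDifferential.D k X.functionField f ≠ 0 := by
  classical
  by_contra hne
  push Not at hne
  obtain ⟨Y, _, _, _, _, hY, hY0, hYg, φ, ⟨hfin, hrk⟩, hker⟩ := exists_frobenius_subfield (k := k) hdim h0 p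
  letI := φ.toRingHom.toAlgebra
  haveI := hfin
  haveI : IsScalarTower k Y.functionField X.functionField := IsScalarTower.of_algebraMap_eq fun c => (φ.commutes c).symm
  have hKY := CurveDualLib.isFunctionField' (k := k) hY hY0
  have hKX := CurveDualLib.isFunctionField' (k := k) hdim h0
  haveI := Groth.Agent.S10976.result k X.functionField hKX D
  let b := Module.finBasis k (L D)
  choose a ha using fun i => hker (b i).1 (hne _ (b i).2)
  obtain ⟨E, hE0, hE, hEc⟩ := exists_divisor_below hKY hD Finset.univ a fun i _ => by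
    rw [show algebraMap Y.functionField X.functionField (a i) = (b i).1 from ha i]
    exact (b i).2
  haveI := Groth.Agent.S10976.result k Y.functionField hKY E
  let v : Fin (Module.finrank k (L D)) → L E := fun i => ⟨a i, hE i (Finset.mem_univ _)⟩
  have hv : LinearIndependent k v := by
    rw [Fintype.linearIndependent_iff]
    intro c hc
    refine Fintype.linearIndependent_iff.1 b.linearIndependent c (Subtype.ext ?_)
    have h := congrArg (fun z : L E => φ z.1) hc
    simpa [v, map_sum, Algebra.smul_def, ← ha] using h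
  have h1 := hv.fintype_card_le_finrank
  rw [Fintype.card_fin] at h1
  replace h1 : ell D ≤ ell E := h1
  have h2 := Groth.Agent.FFLib.deg_mono hEc
  rw [Groth.Agent.FFLib.deg_conorm hKY.1, hdeg] at h2
  have hEd : 0 ≤ E.deg := Groth.Agent.FFLib.deg_nonneg hE0
  have h3 : 2 * E.deg ≤ 2 * (Curv2.genus k X : ℤ) - 2 := le_trans (mul_le_mul_of_nonneg_right (by exact_mod_cast hrk) hEd) h2
  have h4 := Groth.Agent.FFLib.ell_le_deg_add_one hKY hE0
  obtain ⟨L', hL'⟩ := ZetaCurveLib.exists_module (k := k) hY hY0 E
  haveI := CurveH0Lib.geometricallyConnected_of_h0 (k := k) (X := Y) hY0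
  have h5 := CurveH0Lib.h0_le_deg k hY (by omega) hL'.1 (by rw [hL'.deg hY hY0]; omega)
  obtain ⟨hLi, σ, hσ, hσE⟩ := hL'
  rw [CurveDualLib.finrank_h0_eq_ell hY hLi hσ hσE, ZetaCurveLib.HasDiv.deg hY hY0 ⟨hLi, σ, hσ, hσE⟩] at h5
  omega

include hdim in
/-- Away from a finite set, the points of a fibre of a separating function have separable residue fields. -/
theorem exists_good_open {f : X.functionField} (hf : KaehlerDifferential.D k X.functionField f ≠ 0)
    (hspan : ∀ ω : Ω[X.functionField⁄k], ∃ c : X.functionField, ω = c • KaehlerDifferential.D k X.functionField f) :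
    ∃ U : X.Opens, genericPoint X ∈ U ∧ ∀ (x : X) (hx : IsClosed ({x} : Set X)), x ∈ U → ∀ c : k,
      0 < (CurveDualLib.ptPlace (k := k) hdim hx).ord (f - algebraMap k X.functionField c) →
        Algebra.IsSeparable k (X.residueField x) := by
  classical
  obtain ⟨V, hηV, f₀, hf₀⟩ := TopCat.Presheaf.exists_germ_eq X.presheaf (x := genericPoint X) f
  obtain ⟨W, hW, hηW, hWV⟩ := TopologicalSpace.Opens.isBasis_iff_nbhd.mp X.isBasis_affineOpens hηV
  haveI : Nonempty W := ⟨⟨_, hηW⟩⟩
  let p := X ↘ Spec (CommRingCat.of k)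
  let ρ : k →+* Γ(X, W) := (X.presheaf.map (homOfLE (le_top : W ≤ ⊤)).op).hom.comp
    ((p.appTop).hom.comp (Scheme.ΓSpecIso (CommRingCat.of k)).inv.hom)
  letI : Algebra k Γ(X, W) := ρ.toAlgebra
  letI : Algebra Γ(X, W) X.functionField := (X.germToFunctionField W).hom.toAlgebra
  haveI : IsFractionRing Γ(X, W) X.functionField := functionField_isFractionRing_of_isAffineOpen X W hW
  haveI : IsScalarTower k Γ(X, W) X.functionField := IsScalarTower.of_algebraMap_eq fun c => by
    symm
    exact TopCat.Presheaf.germ_res_apply X.presheaf (homOfLE (le_top : W ≤ ⊤)) _ hηW _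
  haveI : Algebra.FiniteType k Γ(X, W) := by
    have h : ρ.FiniteType := by
      have h1 := LocallyOfFiniteType.finiteType_appLE p (U := ⊤) (V := W) (isAffineOpen_top _) hW le_top
      exact h1.comp (RingHom.FiniteType.of_surjective _ ((Scheme.ΓSpecIso (CommRingCat.of k)).commRingCatIsoToRingEquiv.symm.surjective))
    exact h
  haveI := IsLocalization.flat X.functionField (nonZeroDivisors Γ(X, W))
  let f₁ : Γ(X, W) := X.presheaf.map (homOfLE hWV).op f₀
  have hf₁ : algebraMap Γ(X, W) X.functionField f₁ = f :=
    (TopCat.Presheaf.germ_res_apply X.presheaf (homOfLE hWV) (genericPoint X) hηW f₀).trans hf₀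
  haveI : IsLocalizedModule (nonZeroDivisors Γ(X, W)) (KaehlerDifferential.map k k Γ(X, W) X.functionField) :=
    KaehlerDifferential.isLocalizedModule_map k Γ(X, W) (X.functionField : Type u) (nonZeroDivisors Γ(X, W))
  have hone : ∀ a : Γ(X, W), ∃ s : Γ(X, W), s ≠ 0 ∧ ∃ n : Γ(X, W),
      s • KaehlerDifferential.D k Γ(X, W) a = n • KaehlerDifferential.D k Γ(X, W) f₁ := by
    intro a
    obtain ⟨c, hc⟩ := hspan (KaehlerDifferential.D k X.functionField (algebraMap _ _ a))
    obtain ⟨n, s, hns⟩ := IsFractionRing.div_surjective (A := Γ(X, W)) c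
    obtain ⟨hs, rfl⟩ := hns
    have hs0 : algebraMap Γ(X, W) X.functionField s ≠ 0 := IsFractionRing.to_map_ne_zero_of_mem_nonZeroDivisors hs
    have h : KaehlerDifferential.map k k Γ(X, W) X.functionField (s • KaehlerDifferential.D k Γ(X, W) a) =
        KaehlerDifferential.map k k Γ(X, W) X.functionField (n • KaehlerDifferential.D k Γ(X, W) f₁) := by
      rw [map_smul, map_smul, KaehlerDifferential.map_D, KaehlerDifferential.map_D, hf₁, hc,
        ← algebraMap_smul X.functionField s, ← algebraMap_smul X.functionField n, smul_smul, mul_div_cancel₀ _ hs0]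
    obtain ⟨⟨t, ht⟩, hts⟩ := IsLocalizedModule.exists_of_eq (S := nonZeroDivisors Γ(X, W)) h
    refine ⟨t * s, mul_ne_zero (nonZeroDivisors.ne_zero ht) (nonZeroDivisors.ne_zero hs), t * n, ?_⟩
    simpa [Submonoid.smul_def, mul_smul] using hts
  obtain ⟨S, hS⟩ := Algebra.FiniteType.out (R := k) (A := Γ(X, W))
  choose s hs n hn using hone
  let S₀ := ∏ a ∈ S, s a
  have hS₀ : S₀ ≠ 0 := Finset.prod_ne_zero_iff.2 fun a _ => hs a
  refine ⟨W ⊓ X.basicOpen S₀, ⟨hηW, ?_⟩, ?_⟩
  · refine (Scheme.mem_basicOpen X S₀ _ hηW).2 (Ne.isUnit (G₀ := X.functionField) fun h => hS₀ ?_)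
    exact IsFractionRing.injective Γ(X, W) X.functionField (h.trans (map_zero _).symm)
  rintro x hx ⟨hxW, hxS⟩ c hord
  let ψ : Γ(X, W) →ₐ[k] X.residueField x :=
    { (X.residue x).hom.comp (X.presheaf.germ W x hxW).hom with
      commutes' := fun e => congrArg (X.residue x)
        (TopCat.Presheaf.germ_res_apply X.presheaf (homOfLE (le_top : W ≤ ⊤)) x hxW _) }
  letI : Algebra Γ(X, W) (X.residueField x) := ψ.toRingHom.toAlgebra
  haveI : IsScalarTower k Γ(X, W) (X.residueField x) := IsScalarTower.of_algebraMap_eq fun e => (ψ.commutes e).symm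
  have hfc : ψ f₁ = algebraMap k _ c := by
    have h0 : f - algebraMap k X.functionField c ≠ 0 := fun h => by rw [h] at hord; simp [Place.ord] at hord
    have h1 : algebraMap (X.presheaf.stalk x) X.functionField (X.presheaf.germ W x hxW (f₁ - algebraMap k Γ(X, W) c)) =
        f - algebraMap k X.functionField c := by
      refine (TopCat.Presheaf.germ_stalkSpecializes_apply X.presheaf hxW _ _).trans ?_
      show algebraMap Γ(X, W) X.functionField (f₁ - algebraMap k Γ(X, W) c) = _
      rw [map_sub, hf₁, ← IsScalarTower.algebraMap_apply]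
    have h2 := (Groth.Agent.FFLib.v_lt_one_iff (CurveDualLib.ptPlace (k := k) hdim hx) h0).2 hord
    rw [CurveDualLib.ptPlace_val, ← h1, CurveDualLib.ptVal_lt_one_iff] at h2
    have h3 : ψ (f₁ - algebraMap k Γ(X, W) c) = 0 := (IsLocalRing.residue_eq_zero_iff _).2 h2
    rw [map_sub, AlgHom.commutes, sub_eq_zero] at h3
    exact h3
  have hgen : ∀ a ∈ S, KaehlerDifferential.D k (X.residueField x) (ψ a) = 0 := by
    intro a ha
    have h := congrArg (KaehlerDifferential.map k k Γ(X, W) (X.residueField x)) (hn a)
    rw [map_smul, map_smul, KaehlerDifferential.map_D, KaehlerDifferential.map_D,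
      show algebraMap Γ(X, W) (X.residueField x) f₁ = algebraMap k _ c from hfc,
      Derivation.map_algebraMap, smul_zero, ← algebraMap_smul (X.residueField x) (s a)] at h
    refine (smul_eq_zero.1 h).resolve_left ?_
    have hu : IsUnit (X.presheaf.germ W x hxW S₀) := (Scheme.mem_basicOpen X S₀ x hxW).1 hxS
    have hu' : IsUnit (ψ S₀) := hu.map (X.residue x).hom
    exact (isUnit_of_dvd_unit (map_dvd ψ (Finset.dvd_prod_of_mem s ha)) hu').ne_zero
  have hall : ∀ a : Γ(X, W), KaehlerDifferential.D k (X.residueField x) (ψ a) = 0 := fun a => by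
    have ha : a ∈ Algebra.adjoin k (S : Set Γ(X, W)) := hS ▸ Algebra.mem_top
    induction ha using Algebra.adjoin_induction with
    | mem y hy => exact hgen y hy
    | algebraMap e => rw [AlgHom.commutes, Derivation.map_algebraMap]
    | add y z _ _ hy hz => rw [map_add, map_add, hy, hz, add_zero]
    | mul y z _ _ hy hz => rw [map_mul, Derivation.leibniz, hy, hz, smul_zero, smul_zero, add_zero]
  have hD : ∀ z : X.residueField x, KaehlerDifferential.D k (X.residueField x) z = 0 := fun z => by
    letI : Algebra Γ(X, W) (X.presheaf.stalk x) := TopCat.Presheaf.algebra_section_stalk X.presheaf ⟨x, hxW⟩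
    haveI := hW.isLocalization_stalk ⟨x, hxW⟩
    obtain ⟨z', rfl⟩ := X.residue_surjective x z
    obtain ⟨a, b, rfl⟩ := IsLocalization.exists_mk'_eq (hW.primeIdealOf ⟨x, hxW⟩).asIdeal.primeCompl z'
    have hu : IsUnit (X.presheaf.germ W x hxW b.1) := IsLocalization.map_units (X.presheaf.stalk x) b
    have hb : ψ b.1 ≠ 0 := (hu.map (X.residue x).hom).ne_zero
    have hz : X.residue x (IsLocalization.mk' (X.presheaf.stalk x) a b) = ψ a / ψ b.1 := by
      rw [eq_div_iff hb]
      show X.residue x _ * X.residue x (X.presheaf.germ W x hxW b.1) = X.residue x (X.presheaf.germ W x hxW a)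
      rw [← map_mul]
      exact congrArg (X.residue x) (IsLocalization.mk'_spec _ a b)
    rw [hz, Derivation.leibniz_div, hall, hall, smul_zero, smul_zero, sub_zero, smul_zero]
  haveI : Module.Finite k (X.residueField x) := HurwitzLib.finite_residueField (k := k) hx
  haveI : Algebra.FormallyUnramified k (X.residueField x) := ⟨by
    refine ⟨fun u v => ?_⟩
    have h : ∀ w : Ω[X.residueField x⁄k], w = 0 := fun w => by
      have hw : w ∈ Submodule.span (X.residueField x) (Set.range (KaehlerDifferential.D k (X.residueField x))) := by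
        rw [KaehlerDifferential.span_range_derivation]; trivial
      induction hw using Submodule.span_induction with
      | mem y hy => obtain ⟨z, rfl⟩ := hy; exact hD z
      | zero => rfl
      | add y z _ _ hy hz => rw [hy, hz, add_zero]
      | smul e y _ hy => rw [hy, smul_zero]
    rw [h u, h v]⟩
  exact (Algebra.FormallyUnramified.iff_isSeparable _ _).mp inferInstance

end CurveFFLib

end
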