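import Groth.Agent.CurveFFLib.Main
import Groth.Agent.AbSchLib.Flat
import Groth.Agent.CurveFFLib.GenDiff
import Groth.Agent.VeryAmpleLib.Bc
import Groth.Agent.CurveH0Lib.Conn
import Groth.Agent.CurveDualLib.GenusField

/-!
# The Frobenius twist of a curve has the same genus; functions killed by the differential
-/

set_option autoImplicit false
set_option linter.style.haveILetI false
set_option linter.unusedSectionVars false
universe u

open CategoryTheory CategoryTheory.Limits AlgebraicGeometry
open IntermediateField

noncomputable section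

namespace CurveFFLib

/-- Cohomological invariants along a field extension given by a map. -/
theorem invariants_pullback {k K : Type u} [Field k] [Field K] (φ : k →+* K) (X : Scheme.{u})
    [X.Over (Spec (CommRingCat.of k))] [IsProper (X ↘ Spec (CommRingCat.of k))] :
    letI : (pullback (X ↘ Spec (CommRingCat.of k)) (Spec.map (CommRingCat.ofHom φ))).Over (Spec (CommRingCat.of K)) :=
      ⟨pullback.snd _ _⟩
    Curv2.genus K (pullback (X ↘ Spec (CommRingCat.of k)) (Spec.map (CommRingCat.ofHom φ))) = Curv2.genus k X ∧
      Module.finrank K (Coh.HH (pullback (X ↘ Spec (CommRingCat.of k)) (Spec.map (CommRingCat.ofHom φ)))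
        (Coh.structureModule _) 0) = Module.finrank k (Coh.HH X (Coh.structureModule X) 0) := by
  letI : Algebra k K := φ.toAlgebra
  letI : (Curv2.bc k X K).Over (Spec (CommRingCat.of K)) := ⟨Curv2.bcSnd k X K⟩
  exact ⟨VeryAmpleLib.genus_bc k X K,
    (CurvLib.hIso (k := K) (KFlatLib.pullUnitIso (Curv2.bcFst k X K)) 0).finrank_eq.symm.trans
      (HilbPolyLib.finrank_HH_bc K QCohLib.isQCoh_unit 0)⟩

variable {k : Type u} [Field k] {X : Scheme.{u}} [X.Over (Spec (CommRingCat.of k))] [IsIntegral X]
  [IsProper (X ↘ Spec (CommRingCat.of k))] [Smooth (X ↘ Spec (CommRingCat.of k))]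

attribute [local instance] CurveDualLib.algFF

/-- A twisted function field inside the function field, containing the kernel of the differential. -/
theorem exists_frobenius_subfield (hdim : topologicalKrullDim X = 1)
    (h0 : Module.finrank k (Coh.HH X (Coh.structureModule X) 0) = 1) (p : ℕ) [Fact p.Prime] [ExpChar k p] :
    ∃ (Y : Scheme.{u}) (_ : Y.Over (Spec (CommRingCat.of k))) (_ : IsIntegral Y)
      (_ : IsProper (Y ↘ Spec (CommRingCat.of k))) (_ : Smooth (Y ↘ Spec (CommRingCat.of k))),
      topologicalKrullDim Y = 1 ∧ Module.finrank k (Coh.HH Y (Coh.structureModule Y) 0) = 1 ∧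
      Curv2.genus k Y = Curv2.genus k X ∧
      ∃ φ : Y.functionField →ₐ[k] X.functionField,
        (letI := φ.toRingHom.toAlgebra
         FiniteDimensional Y.functionField X.functionField ∧ 1 < Module.finrank Y.functionField X.functionField) ∧
        ∀ x : X.functionField, KaehlerDifferential.D k X.functionField x = 0 → x ∈ φ.range := by
  haveI : CharP k p := charP_of_expChar k p
  haveI : CharP X.functionField p := charP_of_injective_algebraMap (algebraMap k X.functionField).injective p
  haveI : ExpChar X.functionField p := ExpChar.prime Fact.out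
  obtain ⟨hint, -, hd, hsm⟩ := twist_facts (k := k) (X := X) p 1
  haveI := hint
  letI iO : (twist k p X 1).Over (Spec (CommRingCat.of k)) := ⟨twistHom k p X 1⟩
  haveI : Smooth (twist k p X 1 ↘ Spec (CommRingCat.of k)) := hsm
  haveI : IsProper (twist k p X 1 ↘ Spec (CommRingCat.of k)) := MorphismProperty.pullback_snd _ _ ‹_›
  obtain ⟨hgen, hh0⟩ := invariants_pullback (iterateFrobenius k p 1) X
  obtain ⟨Φ, hΦs, hΦ⟩ := exists_relFrobIter k p X 1
  have e := relFrobIter_generic Φ fun x => (hΦ x).1
  let a : (twist k p X 1).functionField →+* X.functionField :=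
    ((twist k p X 1).presheaf.stalkSpecializes (specializes_of_eq e) ≫ Φ.stalkMap (genericPoint X)).hom
  have hdimY : topologicalKrullDim (twist k p X 1) = 1 := hd.trans hdim
  let φ : (twist k p X 1).functionField →ₐ[k] X.functionField :=
    { a with commutes' := fun c => ff_scalar (k := k) hΦs e c }
  have hrange : ∀ x : X.functionField, x ∈ φ.range ↔
      x ∈ adjoin k (Set.range fun x : X.functionField => x ^ p ^ 1) := fun x =>
    SetLike.ext_iff.1 (range_relFrobIter p 1 Φ hΦs hΦ e) x
  set M := adjoin k (Set.range fun x : X.functionField => x ^ p ^ 1) with hM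
  have hkill : ∀ x ∈ M, KaehlerDifferential.D k X.functionField x = 0 := by
    intro x hx
    induction hx using adjoin_induction with
    | mem y hy =>
      obtain ⟨z, rfl⟩ := hy
      simp only [pow_one, Derivation.leibniz_pow]
      rw [← Nat.cast_smul_eq_nsmul X.functionField p]
      simp
    | algebraMap c => exact Derivation.map_algebraMap _ c
    | add a b _ _ ha hb => rw [map_add, ha, hb, add_zero]
    | inv a _ ha => rw [Derivation.leibniz_inv, ha, smul_zero]
    | mul a b _ _ ha hb => rw [Derivation.leibniz, ha, hb, smul_zero, smul_zero, add_zero]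
  haveI := AbSchLib.geometricallyReduced_of_smooth (X ↘ Spec (CommRingCat.of k))
  obtain ⟨x₁, b, hb⟩ := exists_basis_D (k := k) (X := X) 1 (by rw [hdim]; rfl)
  have hne : ∃ t, KaehlerDifferential.D k X.functionField t ≠ 0 :=
    ⟨x₁ ⟨0⟩, fun h => b.ne_zero ⟨0⟩ ((hb _).trans h)⟩
  refine ⟨twist k p X 1, iO, hint, inferInstance, inferInstance, hdimY, hh0.trans h0, hgen, φ, ?_, fun x hx => ?_⟩
  · letI := φ.toRingHom.toAlgebra
    haveI : FiniteDimensional (twist k p X 1).functionField X.functionField :=
      finite_functionField (k := k) (hdim.trans hdimY.symm) Φ hΦs e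
    refine ⟨inferInstance, ?_⟩
    by_contra h
    have h1 : Module.finrank (twist k p X 1).functionField X.functionField = 1 := by
      have := Module.finrank_pos (R := (twist k p X 1).functionField) (M := X.functionField)
      omega
    obtain ⟨t, ht⟩ := hne
    have hb' := ((finrank_eq_one_iff_of_nonzero' (1 : X.functionField) one_ne_zero).1 h1) t
    obtain ⟨c, hc⟩ := hb'
    rw [Algebra.smul_def, mul_one] at hc
    exact ht (hkill t ((hrange t).1 ⟨c, hc⟩))
  · rw [hrange]
    by_contra hxM
    obtain ⟨t, ht⟩ := exists_separating (k := k) hdim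
    haveI := ht
    haveI : ExpChar M p := (algebraMap M X.functionField).expChar (RingHom.injective _) p
    have hp : ∀ z : X.functionField, z ^ p ∈ M := fun z =>
      subset_adjoin k (Set.range fun x : X.functionField => x ^ p ^ 1) ⟨z, by simp⟩
    have htop : M⟮t⟯ = ⊤ := by
      refine eq_top_iff.2 fun y _ => ?_
      have hy := adjoin_insert_eq_top p t ((M⟮t⟯).restrictScalars k) (mem_adjoin_simple_self M t)
        fun z => ⟨1, (M⟮t⟯).algebraMap_mem (⟨z ^ p ^ 1, by rw [pow_one]; exact hp z⟩ : M)⟩
      exact (SetLike.ext_iff.1 hy y).2 trivial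
    have htM : t ∉ M := fun h => hxM <| by
      have : M⟮t⟯ = ⊥ := adjoin_simple_eq_bot_iff.2 (mem_bot.2 ⟨⟨t, h⟩, rfl⟩)
      rw [this] at htop
      obtain ⟨c, hc⟩ := mem_bot.1 (htop.symm ▸ mem_top (x := x) : x ∈ (⊥ : IntermediateField M X.functionField))
      exact hc ▸ c.2
    have hint' : IsIntegral M t :=
      ⟨Polynomial.X ^ p - Polynomial.C (⟨t ^ p, hp t⟩ : M),
        Polynomial.monic_X_pow_sub_C _ (Fact.out : p.Prime).ne_zero, by simp⟩
    have hdeg : Module.finrank M X.functionField ≤ p := by
      rw [← finrank_top', ← htop, adjoin.finrank hint']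
      refine (Polynomial.natDegree_le_of_dvd (minpoly.dvd M t (p := Polynomial.X ^ p - Polynomial.C (⟨t ^ p, hp t⟩ : M)) (by simp))
        (Polynomial.monic_X_pow_sub_C _ (Fact.out : p.Prime).ne_zero).ne_zero).trans (le_of_eq ?_)
      rw [Polynomial.natDegree_X_pow_sub_C]
    -- every element outside `M` generates
    have hxint : IsIntegral M x :=
      ⟨Polynomial.X ^ p - Polynomial.C (⟨x ^ p, hp x⟩ : M),
        Polynomial.monic_X_pow_sub_C _ (Fact.out : p.Prime).ne_zero, by simp⟩
    have hxtop : M⟮x⟯ = ⊤ := by
      haveI : FiniteDimensional M (⊤ : IntermediateField M X.functionField) := htop ▸ adjoin.finiteDimensional hint'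
      haveI : FiniteDimensional M X.functionField := Module.Finite.equiv IntermediateField.topEquiv.toLinearEquiv
      refine eq_of_le_of_finrank_le le_top ?_
      rw [finrank_top', adjoin.finrank hxint]
      refine hdeg.trans (le_of_eq ?_)
      have hirr : Irreducible (Polynomial.X ^ p - Polynomial.C (⟨x ^ p, hp x⟩ : M)) :=
        X_pow_sub_C_irreducible_of_prime Fact.out fun c hc => hxM <| by
          have h := congrArg (algebraMap M X.functionField) hc
          rw [map_pow] at h
          have : (algebraMap M X.functionField c) = x := frobenius_inj X.functionField p (by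
            simpa [frobenius_def] using h)
          exact this ▸ c.2
      rw [← minpoly.eq_of_irreducible_of_monic hirr (by simp) (Polynomial.monic_X_pow_sub_C _ (Fact.out : p.Prime).ne_zero),
        Polynomial.natDegree_X_pow_sub_C]
    obtain ⟨y₀, hy₀⟩ := hne
    refine hy₀ ?_
    clear hy₀
    have hy' : y₀ ∈ M⟮x⟯ := hxtop ▸ mem_top
    induction hy' using adjoin_induction with
    | mem z hz => rw [Set.mem_singleton_iff.1 hz]; exact hx
    | algebraMap c => exact hkill _ c.2
    | add a b _ _ ha hb => rw [map_add, ha, hb, add_zero]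
    | inv a _ ha => rw [Derivation.leibniz_inv, ha, smul_zero]
    | mul a b _ _ ha hb => rw [Derivation.leibniz, ha, hb, smul_zero, smul_zero, add_zero]

end CurveFFLib

end
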